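import Cfsg.Agent.SolvStruct.S3Fpf.Data

/-!
# An element of order three without fixed vectors centralises a class two quotient of odd order
-/

set_option autoImplicit false

namespace Cfsg.Agent.SolvStruct.S3Fpf

open scoped commutatorElement
open Module

variable {K : Type*} [Field K] [IsAlgClosed K] {V : Type*} [AddCommGroup V] [Module K V] {N : Type*}
  [Group N] [Finite N] {W : Type*} [AddCommGroup W] [Module K W] [FiniteDimensional K W]

/-- Schur's lemma. -/
theorem eq_scalar [Nontrivial W] (r : N →* End K W) (S : End K W)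
    (hirr : ∀ U : Submodule K W, (∀ x, ∀ w ∈ U, r x w ∈ U) → (∀ w ∈ U, S w ∈ U) → U = ⊥ ∨ U = ⊤)
    (T : End K W) (hT : ∀ x w, r x (T w) = T (r x w)) (hTS : ∀ w, S (T w) = T (S w)) :
    ∃ α : K, T = α • 1 := by
  obtain ⟨α, hα⟩ := Module.End.exists_eigenvalue T
  refine ⟨α, LinearMap.ext fun w => ?_⟩
  have htop : Module.End.eigenspace T α = ⊤ := by
    refine (hirr _ ?_ ?_).resolve_left hα
    · intro x w hw
      rw [Module.End.mem_eigenspace_iff] at hw ⊢
      rw [← hT, hw, map_smul]
    · intro w hw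
      rw [Module.End.mem_eigenspace_iff] at hw ⊢
      rw [← hTS, hw, map_smul]
  have hw : w ∈ Module.End.eigenspace T α := htop ▸ Submodule.mem_top
  rw [Module.End.mem_eigenspace_iff] at hw
  simpa using hw

theorem smul_one_inj [Nontrivial W] {a b : K} (h : (a • 1 : End K W) = b • 1) : a = b := by
  obtain ⟨w, hw⟩ := exists_ne (0 : W)
  have h1 := LinearMap.congr_fun h w
  simp only [LinearMap.smul_apply, Module.End.one_apply] at h1
  exact smul_left_injective K hw h1

omit [Finite N] in
theorem finrank_hom_eigen [Nontrivial W] {S : End K W} {ζ : K} (hζ : ζ * ζ + ζ + 1 = 0)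
    (h3 : (3 : K) ≠ 0) (hq : S * S + S + 1 = 0) :
    ∃ a b : ℕ, a + b = finrank K W ∧
      ∀ E : Submodule K (End K W), (∀ T, T ∈ E ↔ S * T = ζ • (T * S)) → finrank K E = a * b := by
  set U₁ := Module.End.eigenspace S ζ with hU₁
  set U₂ := Module.End.eigenspace S (ζ * ζ) with hU₂
  have hne : ζ - ζ * ζ ≠ 0 := by
    intro h
    rcases mul_eq_zero.1 (show ζ * (1 - ζ) = 0 by rw [← h]; ring) with h1 | h1
    · rw [h1] at hζ; simp at hζ
    · rw [← (sub_eq_zero.1 h1)] at hζ
      exact h3 (by rw [← hζ]; norm_num)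
  have hqw : ∀ w, S (S w) + S w + w = 0 := fun w => LinearMap.congr_fun hq w
  have hsum : ζ + ζ * ζ = -1 := by linear_combination hζ
  have hζ3 : ζ * (ζ * ζ) = 1 := by linear_combination (ζ - 1) * hζ
  have hpart : ∀ w, S w - (ζ * ζ) • w ∈ U₁ ∧ S w - ζ • w ∈ U₂ := by
    intro w
    have h1 : S (S w) = -S w - w := eq_sub_of_add_eq (eq_neg_of_add_eq_zero_left (by
      rw [← hqw w]; abel))
    constructor
    · rw [hU₁, Module.End.mem_eigenspace_iff, map_sub, map_smul, h1, smul_sub, smul_smul, hζ3, one_smul,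
        show -S w - w - (ζ * ζ) • S w = (-1 - ζ * ζ) • S w - w by rw [sub_smul, neg_smul, one_smul]; abel,
        show -1 - ζ * ζ = ζ by linear_combination -hζ]
    · rw [hU₂, Module.End.mem_eigenspace_iff, map_sub, map_smul, h1, smul_sub, smul_smul,
        show (ζ * ζ) * ζ = 1 by linear_combination (ζ - 1) * hζ, one_smul,
        show -S w - w - ζ • S w = (-1 - ζ) • S w - w by rw [sub_smul, neg_smul, one_smul]; abel,
        show -1 - ζ = ζ * ζ by linear_combination -hζ]
  have hsup : ∀ w, w ∈ U₁ ⊔ U₂ := by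
    intro w
    have e : (ζ - ζ * ζ) • w = (S w - (ζ * ζ) • w) - (S w - ζ • w) := by rw [sub_smul]; abel
    have h1 : (ζ - ζ * ζ) • w ∈ U₁ ⊔ U₂ := e ▸ sub_mem (Submodule.mem_sup_left (hpart w).1)
      (Submodule.mem_sup_right (hpart w).2)
    have h2 := Submodule.smul_mem _ (ζ - ζ * ζ)⁻¹ h1
    rwa [inv_smul_smul₀ hne] at h2
  have hc : IsCompl U₁ U₂ := by
    refine ⟨disjoint_iff.2 ((Submodule.eq_bot_iff _).2 fun w hw => ?_), codisjoint_iff.2
      (eq_top_iff.2 fun w _ => hsup w)⟩
    obtain ⟨h1, h2⟩ := hw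
    rw [hU₁, SetLike.mem_coe, Module.End.mem_eigenspace_iff] at h1
    rw [hU₂, SetLike.mem_coe, Module.End.mem_eigenspace_iff] at h2
    rw [h1] at h2
    have h4 : (ζ - ζ * ζ) • w = 0 := by rw [sub_smul, h2, sub_self]
    exact (smul_eq_zero.1 h4).resolve_left hne
  refine ⟨finrank K U₁, finrank K U₂, Submodule.finrank_add_eq_of_isCompl hc, fun E hE => ?_⟩
  have hS1 : ∀ u : U₁, S (u : W) = ζ • (u : W) := fun u => Module.End.mem_eigenspace_iff.1 u.2
  have hS2 : ∀ u : U₂, S (u : W) = (ζ * ζ) • (u : W) := fun u => Module.End.mem_eigenspace_iff.1 u.2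
  have hmap : ∀ T ∈ E, ∀ u : U₁, T (u : W) ∈ U₂ := fun T hT u => by
    have h := LinearMap.congr_fun ((hE T).1 hT) (u : W)
    simp only [Module.End.mul_apply, LinearMap.smul_apply, hS1, map_smul, smul_smul] at h
    exact Module.End.mem_eigenspace_iff.2 h
  have hzero : ∀ T ∈ E, ∀ u : U₂, T (u : W) = 0 := fun T hT u => by
    have h := LinearMap.congr_fun ((hE T).1 hT) (u : W)
    simp only [Module.End.mul_apply, LinearMap.smul_apply, hS2, map_smul, smul_smul, hζ3, one_smul] at h
    -- `T u` would be fixed by `S`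
    have h2 := hqw (T (u : W))
    rw [h, h] at h2
    have h5 : (3 : K) • T (u : W) = 0 := by
      rw [show (3 : K) = 1 + 1 + 1 by norm_num, add_smul, add_smul, one_smul, h2]
    exact (smul_eq_zero.1 h5).resolve_left h3
  let F : E →ₗ[K] (U₁ →ₗ[K] U₂) :=
    { toFun := fun T => LinearMap.codRestrict U₂ ((T : End K W).comp U₁.subtype) (hmap T T.2)
      map_add' := fun _ _ => rfl
      map_smul' := fun _ _ => rfl }
  have hF : Function.Bijective F := by
    refine ⟨fun A B hAB => Subtype.ext (LinearMap.ext fun w => ?_), fun G => ?_⟩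
    · obtain ⟨x, hx, y, hy, rfl⟩ := Submodule.mem_sup.1 (hsup w)
      rw [map_add, map_add, hzero A A.2 ⟨y, hy⟩, hzero B B.2 ⟨y, hy⟩]
      congr 1
      exact congrArg Subtype.val (LinearMap.congr_fun hAB ⟨x, hx⟩)
    · let T : End K W := U₂.subtype.comp (G.comp (Submodule.projectionOnto U₁ U₂ hc))
      have hT1 : ∀ u : U₁, T (u : W) = G u := fun u => by
        show ((G (Submodule.projectionOnto U₁ U₂ hc (u : W)) : U₂) : W) = G u
        rw [Submodule.projectionOnto_apply_left]
      have hT2 : ∀ u : U₂, T (u : W) = 0 := fun u => by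
        show ((G (Submodule.projectionOnto U₁ U₂ hc (u : W)) : U₂) : W) = 0
        rw [Submodule.projectionOnto_apply_of_mem_right, map_zero]
        · rfl
        · exact u.2
      have hTE : T ∈ E := by
        refine (hE T).2 (LinearMap.ext fun w => ?_)
        obtain ⟨x, hx, y, hy, rfl⟩ := Submodule.mem_sup.1 (hsup w)
        have e1 := hT1 ⟨x, hx⟩
        have e2 := hT2 ⟨y, hy⟩
        simp only [Module.End.mul_apply, LinearMap.smul_apply, map_add, hS1 ⟨x, hx⟩, hS2 ⟨y, hy⟩,
          map_smul, e1, e2, smul_zero, add_zero, map_zero, smul_smul]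
        exact hS2 (G ⟨x, hx⟩)
      exact ⟨⟨T, hTE⟩, LinearMap.ext fun u => Subtype.ext (hT1 u)⟩
  rw [(LinearEquiv.ofBijective F hF).finrank_eq, Module.finrank_linearMap]

namespace Data

variable (D : Data K V N)

omit [IsAlgClosed K] in
theorem exists_orbit_reps {Qb : Type*} [Fintype Qb] [One Qb] (f : Qb → Qb) (hf : ∀ q, f (f (f q)) = q)
    (hf1 : f 1 = 1) (hfix : ∀ q, f q = q → q = 1) :
    ∃ P : Finset Qb, (∀ p ∈ P, p ≠ 1) ∧ ∀ q, q ≠ 1 → ∃! x : P × Fin 3, (f^[(x.2 : ℕ)]) (x.1 : Qb) = q := by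
  classical
  let ord := Fintype.equivFin Qb
  let P := Finset.univ.filter fun p => p ≠ 1 ∧ ord p ≤ ord (f p) ∧ ord p ≤ ord (f (f p))
  refine ⟨P, fun p hp => (Finset.mem_filter.1 hp).2.1, fun q hq => ?_⟩
  have hne : ∀ {x}, x ≠ 1 → f x ≠ 1 := fun {x} hx e => hx (by rw [← hf x, e, hf1, hf1])
  have hd : ∀ {x}, x ≠ 1 → f x ≠ x ∧ f (f x) ≠ x := fun {x} hx =>
    ⟨fun e => hx (hfix x e), fun e => hx (hfix x (by
      have h := congrArg f e
      rw [hf] at h
      exact h.symm))⟩
  have hex : ∃ x : P × Fin 3, (f^[(x.2 : ℕ)]) (x.1 : Qb) = q := by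
    have mk : ∀ p, p ≠ 1 → ord p ≤ ord (f p) → ord p ≤ ord (f (f p)) → p ∈ P := fun p h1 h2 h3 =>
      Finset.mem_filter.2 ⟨Finset.mem_univ p, h1, h2, h3⟩
    rcases le_total (ord q) (ord (f q)) with a | a <;> rcases le_total (ord q) (ord (f (f q))) with b | b <;>
      rcases le_total (ord (f q)) (ord (f (f q))) with c | c
    all_goals first
      | exact ⟨(⟨q, mk q hq a b⟩, 0), rfl⟩
      | exact ⟨(⟨f q, mk _ (hne hq) c (by rw [hf]; exact a)⟩, 2), hf q⟩
      | exact ⟨(⟨f (f q), mk _ (hne (hne hq)) (by rw [hf]; exact b) (by rw [hf]; exact c)⟩, 1), hf q⟩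
      | exact ⟨(⟨f q, mk _ (hne hq) (c.trans' (le_refl _)) (by rw [hf]; exact a)⟩, 2), hf q⟩
      | exact ⟨(⟨q, mk q hq a (a.trans c)⟩, 0), rfl⟩
      | exact ⟨(⟨q, mk q hq (b.trans c) b⟩, 0), rfl⟩
      | exact ⟨(⟨f (f q), mk _ (hne (hne hq)) (by rw [hf]; exact c.trans a) (by rw [hf]; exact c)⟩, 1), hf q⟩
      | exact ⟨(⟨f q, mk _ (hne hq) c (by rw [hf]; exact c.trans b)⟩, 2), hf q⟩
  obtain ⟨x, hx⟩ := hex
  refine ⟨x, hx, fun y hy => ?_⟩
  have hxy : (f^[(y.2 : ℕ)]) (y.1 : Qb) = (f^[(x.2 : ℕ)]) (x.1 : Qb) := hy.trans hx.symm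
  obtain ⟨⟨p, hp⟩, i⟩ := x
  obtain ⟨⟨p', hp'⟩, j⟩ := y
  obtain ⟨-, hp1, hp2, hp3⟩ := Finset.mem_filter.1 hp
  obtain ⟨-, hq1, hq2, hq3⟩ := Finset.mem_filter.1 hp'
  have key : ∀ k : ℕ, k < 3 → f^[k] p = p' → p' = p ∧ k = 0 := by
    intro k hk e
    interval_cases k
    · exact ⟨e.symm, rfl⟩
    · exfalso
      rw [Function.iterate_one] at e
      rw [← e, hf] at hq3
      exact (hd hp1).1 (ord.injective (le_antisymm hq3 hp2))
    · exfalso
      simp only [Function.iterate_succ, Function.iterate_zero, Function.comp_apply, id] at e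
      rw [← e, hf] at hq2
      exact (hd hp1).2 (ord.injective (le_antisymm hq2 hp3))
  have hf3 : ∀ z, f^[3] z = z := hf
  simp only at hxy
  fin_cases i <;> fin_cases j <;>
    simp only [Fin.zero_eta, Fin.mk_one, Fin.reduceFinMk, Fin.val_zero, Fin.val_one, Fin.val_two,
      Function.iterate_zero, Function.iterate_succ, Function.comp_apply, id, Fin.isValue] at hxy ⊢
  all_goals
    first
    | (obtain ⟨rfl, -⟩ := key 0 (by norm_num) (show p = p' by first
        | simpa [hf] using hxy.symm
        | (have h' := congrArg f hxy; simpa [hf] using h'.symm)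
        | (have h' := congrArg f (congrArg f hxy); simpa [hf] using h'.symm)); rfl)
    | exact absurd (key 1 (by norm_num) (by simpa [hf] using hxy.symm)).2 (by norm_num)
    | exact absurd (key 2 (by norm_num) (by simpa [hf] using hxy.symm)).2 (by norm_num)
    | exact absurd (key 1 (by norm_num) (by simpa [hf] using (congrArg f hxy).symm)).2 (by norm_num)
    | exact absurd (key 2 (by norm_num) (by simpa [hf] using (congrArg f hxy).symm)).2 (by norm_num)
    | exact absurd (key 1 (by norm_num) (by simpa [hf] using (congrArg f (congrArg f hxy)).symm)).2 (by norm_num)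
    | exact absurd (key 2 (by norm_num) (by simpa [hf] using (congrArg f (congrArg f hxy)).symm)).2 (by norm_num)

set_option maxHeartbeats 1000000 in
/-- The irreducible case. -/
theorem quadratic_irreducible [Nontrivial W] (hN : (Nat.card N : K) ≠ 0) (r : N →* End K W) (S : End K W)
    (hS3 : ∀ w, S (S (S w)) = w) (hSr : ∀ x w, S (r x w) = r (D.σ x) (S w))
    (hq : ∀ w, S (S w) + S w + w = 0) (β : N → N → Kˣ)
    (hβ : ∀ x y, r ⁅x, y⁆ = ((β x y : Kˣ) : K) • 1) (hclass : ∀ x y z : N, Commute z ⁅x, y⁆)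
    (hirr : ∀ U : Submodule K W, (∀ x, ∀ w ∈ U, r x w ∈ U) → (∀ w ∈ U, S w ∈ U) → U = ⊥ ∨ U = ⊤) :
    ∀ x y, β x y = 1 := by
  classical
  haveI : Fintype N := Fintype.ofFinite N
  have hinj : ∀ {a b : Kˣ}, ((a : K) • 1 : End K W) = (b : K) • 1 → a = b := fun h => Units.ext (smul_one_inj h)
  have hmulL : ∀ x y z, β (x * y) z = β x z * β y z := fun x y z => by
    refine hinj ?_
    rw [← hβ, commutatorElement_mul_left_eq_conj_mul, (hclass y z x).eq, mul_inv_cancel_right,
      (hclass x z ⁅y, z⁆).eq, map_mul, hβ, hβ, smul_mul_smul_comm, mul_one, Units.val_mul]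
  have hanti : ∀ x y, β y x = (β x y)⁻¹ := fun x y => by
    refine eq_inv_of_mul_eq_one_left (hinj ?_)
    rw [Units.val_mul, ← smul_smul, ← hβ x y, Units.val_one, one_smul]
    calc ((β y x : Kˣ) : K) • r ⁅x, y⁆ = r ⁅y, x⁆ * r ⁅x, y⁆ := by rw [hβ y x, smul_mul_assoc, one_mul]
      _ = 1 := by rw [← map_mul, ← commutatorElement_inv x y, inv_mul_cancel, map_one]
  have hmulR : ∀ x y z, β x (y * z) = β x y * β x z := fun x y z => by
    rw [hanti (y * z) x, hmulL, mul_inv, ← hanti y x, ← hanti z x]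
  have h1L : ∀ x, β 1 x = 1 := fun x => hinj (by rw [← hβ, commutatorElement_one_left, map_one, Units.val_one, one_smul])
  have hcomm : ∀ x y, r x * r y = ((β x y : Kˣ) : K) • (r y * r x) := fun x y => by
    rw [← one_mul (r y * r x), ← smul_mul_assoc, ← hβ, ← map_mul, ← map_mul, ← map_mul,
      commutatorElement_def]
    congr 1; group
  have hSinj : Function.Injective S := fun a b h => by rw [← hS3 a, h, hS3]
  have hSsurj : Function.Surjective S := fun w => ⟨S (S w), hS3 w⟩
  have hSr' : ∀ x, S * r x = r (D.σ x) * S := fun x => LinearMap.ext fun w => hSr x w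
  have hσβ : ∀ x y, β (D.σ x) (D.σ y) = β x y := fun x y => by
    refine hinj (LinearMap.ext fun w => ?_)
    obtain ⟨u, rfl⟩ := hSsurj w
    rw [← hβ, ← map_commutatorElement, ← hSr, hβ]
    simp
  -- the radical
  let R₀ : Subgroup N :=
    { carrier := {x | ∀ y, β x y = 1}
      one_mem' := h1L
      mul_mem' := fun {a b} ha hb y => by rw [hmulL, ha y, hb y, one_mul]
      inv_mem' := fun {a} ha y => by
        have := hmulL a a⁻¹ y
        rw [mul_inv_cancel, h1L, ha y, one_mul] at this
        exact this.symm }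
  haveI hR₀n : R₀.Normal := ⟨fun a ha g y => by
    rw [hmulL, hmulL, ha y, mul_one, ← hmulL, mul_inv_cancel, h1L]⟩
  have hR₀σ : ∀ a ∈ R₀, D.σ a ∈ R₀ := fun a ha y => by
    rw [← D.σ3 y, hσβ]; exact ha _
  have hC : ∀ c, D.σ c = c → c ∈ R₀ := fun c hc y => by
    let P : Subgroup N :=
      { carrier := {y | β c y = 1}
        one_mem' := by show β c 1 = 1; rw [hanti, h1L, inv_one]
        mul_mem' := fun {a b} (ha : β c a = 1) (hb : β c b = 1) => by
          show β c (a * b) = 1; rw [hmulR, ha, hb, one_mul]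
        inv_mem' := fun {a} (ha : β c a = 1) => by
          show β c a⁻¹ = 1
          have := hmulR c a a⁻¹
          rw [mul_inv_cancel, ha, one_mul, hanti 1 c, h1L, inv_one] at this
          exact this.symm }
    refine D.induction_mem (P := P) (fun d hd => hinj ?_) (fun x => ?_) y
    · rw [← hβ, commutatorElement_eq_one_iff_mul_comm.2 (D.fixed_comm hc hd), map_one, Units.val_one, one_smul]
    · show β c (x⁻¹ * D.σ x) = 1
      have h := hσβ c x
      rw [hc] at h
      rw [hmulR, h, ← hmulR, inv_mul_cancel, hanti 1 c, h1L, inv_one]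
  have hR₀r : ∀ a ∈ R₀, ∀ x, r a * r x = r x * r a := fun a ha x => by
    rw [hcomm, ha x, Units.val_one, one_smul]
  -- `R₀` acts by scalars fixed by `σ`
  have hscal : ∀ a ∈ R₀, ∃ α : K, r a = α • 1 ∧ r (D.σ a) = α • 1 := by
    intro a ha
    set b := D.σ a with hb
    set c := D.σ b with hc
    have hbR : b ∈ R₀ := hR₀σ a ha
    have hcR : c ∈ R₀ := hR₀σ b hbR
    obtain ⟨α, hα⟩ := Module.End.exists_eigenvalue (r a)
    set U := Module.End.eigenspace (r a) α with hU
    haveI : Nontrivial U := Submodule.nontrivial_iff_ne_bot.2 hα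
    have hinvU : ∀ x : N, ∀ w ∈ U, r x w ∈ U := fun x w hw => by
      rw [hU, Module.End.mem_eigenspace_iff] at hw ⊢
      rw [← Module.End.mul_apply, hR₀r a ha, Module.End.mul_apply, hw, map_smul]
    obtain ⟨γ', hγ'⟩ := Module.End.exists_eigenvalue ((r b).restrict (hinvU b))
    obtain ⟨u, hu⟩ := hγ'.exists_hasEigenvector
    set U' := U ⊓ Module.End.eigenspace (r b) γ' with hU'
    haveI : Nontrivial U' := Submodule.nontrivial_iff_ne_bot.2 fun e => hu.2 (Subtype.ext (by
      have : (u : W) ∈ U' := ⟨u.2, Module.End.mem_eigenspace_iff.2 (congrArg Subtype.val hu.apply_eq_smul)⟩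
      rw [e, Submodule.mem_bot] at this
      exact this))
    have hinvU' : ∀ w ∈ U', r c w ∈ U' := fun w hw => by
      refine ⟨hinvU c w hw.1, ?_⟩
      have h2 := Module.End.mem_eigenspace_iff.1 hw.2
      rw [SetLike.mem_coe, Module.End.mem_eigenspace_iff, ← Module.End.mul_apply, hR₀r b hbR,
        Module.End.mul_apply, h2, map_smul]
    obtain ⟨γ, hγ⟩ := Module.End.exists_eigenvalue ((r c).restrict hinvU')
    obtain ⟨v', hv'⟩ := hγ.exists_hasEigenvector
    set v := (v' : W) with hv
    have hv0 : v ≠ 0 := fun e => hv'.2 (Subtype.ext e)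
    have hav : r a v = α • v := Module.End.mem_eigenspace_iff.1 v'.2.1
    have hbv : r b v = γ' • v := Module.End.mem_eigenspace_iff.1 v'.2.2
    have hcv : r c v = γ • v := congrArg Subtype.val hv'.apply_eq_smul
    have hσc : D.σ c = a := D.σ3 a
    have haS : r a (S v) = γ • S v := by rw [← hσc, ← hSr, hcv, map_smul]
    have hbS : r b (S v) = α • S v := by rw [hb, ← hSr, hav, map_smul]
    have hcS : r c (S v) = γ' • S v := by rw [hc, ← hSr, hbv, map_smul]
    have haSS : r a (S (S v)) = γ' • S (S v) := by rw [← hσc, ← hSr, hcS, map_smul]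
    have hbSS : r b (S (S v)) = γ • S (S v) := by rw [hb, ← hSr, haS, map_smul]
    have hSSv : S (S v) = -S v - v := eq_sub_of_add_eq (eq_neg_of_add_eq_zero_left (by rw [← hq v]; abel))
    have e1 : (α - γ') • v + (γ - γ') • S v = 0 := by
      have h := haSS
      rw [hSSv, map_sub, map_neg, haS, hav] at h
      linear_combination (norm := module) (-1 : K) • h
    have e2 : (γ' - γ) • v + (α - γ) • S v = 0 := by
      have h := hbSS
      rw [hSSv, map_sub, map_neg, hbS, hbv] at h
      linear_combination (norm := module) (-1 : K) • h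
    have hγγ : γ = γ' := by
      by_contra hne
      have hne' : γ - γ' ≠ 0 := sub_ne_zero.2 hne
      have hSv : S v = (-((γ - γ')⁻¹ * (α - γ'))) • v := by
        have h := congrArg ((γ - γ')⁻¹ • ·) e1
        simp only [smul_add, smul_smul, inv_mul_cancel₀ hne', one_smul, smul_zero] at h
        rw [neg_smul]
        exact eq_neg_of_add_eq_zero_right h
      have hS0 : S v ≠ 0 := fun e => hv0 (hSinj (by rw [e, map_zero]))
      have h1 : α = γ := by
        have h := haS
        rw [hSv, map_smul, hav, smul_comm, ← hSv] at h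
        exact smul_left_injective K hS0 h
      have h2 : γ' = α := by
        have h := hbS
        rw [hSv, map_smul, hbv, smul_comm, ← hSv] at h
        exact smul_left_injective K hS0 h
      exact hne (h1.symm.trans h2.symm)
    have hαγ : α = γ := by
      rw [hγγ, sub_self, zero_smul, add_zero, smul_eq_zero, sub_eq_zero] at e1
      exact (e1.resolve_right hv0).trans hγγ.symm
    have htop : (Module.End.eigenspace (r a) α ⊓ Module.End.eigenspace (r b) α ⊓
        Module.End.eigenspace (r c) α) = ⊤ := by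
      refine (hirr _ ?_ ?_).resolve_left fun e => hv0 ?_
      · intro x w hw
        simp only [Submodule.mem_inf, Module.End.mem_eigenspace_iff] at hw ⊢
        refine ⟨⟨?_, ?_⟩, ?_⟩
        · rw [← Module.End.mul_apply, hR₀r a ha, Module.End.mul_apply, hw.1.1, map_smul]
        · rw [← Module.End.mul_apply, hR₀r b hbR, Module.End.mul_apply, hw.1.2, map_smul]
        · rw [← Module.End.mul_apply, hR₀r c hcR, Module.End.mul_apply, hw.2, map_smul]
      · intro w hw
        simp only [Submodule.mem_inf, Module.End.mem_eigenspace_iff] at hw ⊢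
        refine ⟨⟨?_, ?_⟩, ?_⟩
        · rw [← hσc, ← hSr, hw.2, map_smul]
        · rw [hb, ← hSr, hw.1.1, map_smul]
        · rw [hc, ← hSr, hw.1.2, map_smul]
      · have : v ∈ (⊥ : Submodule K W) := e ▸ Submodule.mem_inf.2 ⟨Submodule.mem_inf.2
          ⟨Module.End.mem_eigenspace_iff.2 hav,
            Module.End.mem_eigenspace_iff.2 (by rw [hbv, ← hγγ, hαγ])⟩,
          Module.End.mem_eigenspace_iff.2 (by rw [hcv, hαγ])⟩
        exact (Submodule.mem_bot K).1 this
    refine ⟨α, LinearMap.ext fun w => ?_, LinearMap.ext fun w => ?_⟩ <;>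
      [have hw := (htop.ge (Submodule.mem_top (x := w))).1.1; have hw := (htop.ge (Submodule.mem_top (x := w))).1.2] <;>
      simpa using Module.End.mem_eigenspace_iff.1 hw
  have hR₀fix : ∀ a ∈ R₀, r (D.σ a) = r a := fun a ha => by
    obtain ⟨α, h1, h2⟩ := hscal a ha; rw [h1, h2]
  -- representatives
  let θ : N ⧸ R₀ → N := fun q => q.out
  have hθ : ∀ q, (θ q : N ⧸ R₀) = q := fun q => Quotient.out_eq' q
  have hrne : ∀ x, r x ≠ 0 := fun x h => by
    obtain ⟨w, hw⟩ := exists_ne (0 : W)
    apply hw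
    rw [← Module.End.one_apply (R := K) w, ← map_one r, ← mul_inv_cancel x, map_mul, h, zero_mul]
    rfl
  have hrep : ∀ x : N, ∃ c : K, r x = c • r (θ x) := fun x => by
    have hm : (θ x)⁻¹ * x ∈ R₀ := QuotientGroup.eq.1 (hθ x)
    obtain ⟨α, hα, -⟩ := hscal _ hm
    exact ⟨α, by conv_lhs => rw [← mul_inv_cancel_left (θ x) x, map_mul, hα]; rw [mul_smul_comm, mul_one]⟩
  choose cf hcf using hrep
  -- the sums of characters
  have hsum : ∀ g, g ∉ R₀ → ∑ y : N, ((β y g : Kˣ) : K) = 0 := fun g hg => by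
    let φ : N →* Kˣ :=
      { toFun := fun y => β y g, map_one' := h1L g, map_mul' := fun a b => hmulL a b g }
    have hφ : (Units.coeHom K).comp φ ≠ 1 := fun e => hg fun y => by
      have h1 : ((β y g : Kˣ) : K) = 1 := DFunLike.congr_fun e y
      rw [hanti y g, Units.val_eq_one.1 h1, inv_one]
    exact sum_hom_units_eq_zero _ hφ
  have hsum1 : ∀ g ∈ R₀, ∑ y : N, ((β y g : Kˣ) : K) = (Nat.card N : K) := fun g hg => by
    rw [Finset.sum_congr rfl (fun y _ => show ((β y g : Kˣ) : K) = 1 by rw [hanti g y, hg y, inv_one, Units.val_one]),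
      Finset.sum_const, Finset.card_univ, ← Nat.card_eq_fintype_card, nsmul_one]
  haveI : Fintype (N ⧸ R₀) := Fintype.ofFinite _
  have hli : LinearIndependent K fun q => r (θ q) := by
    rw [Fintype.linearIndependent_iff]
    intro c hc q₀
    have hy : ∀ y : N, ∑ q, (c q * ((β y (θ q * (θ q₀)⁻¹) : Kˣ) : K)) • r (θ q) = 0 := fun y => by
      have h := congrArg (fun T => ((β y (θ q₀)⁻¹ : Kˣ) : K) • (r y * T * r y⁻¹)) hc
      simp only [Finset.mul_sum, Finset.sum_mul, Finset.smul_sum, mul_zero, zero_mul, smul_zero] at h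
      rw [← h]
      refine Finset.sum_congr rfl fun q _ => ?_
      rw [mul_smul_comm, smul_mul_assoc, hcomm y (θ q), smul_mul_assoc, mul_assoc, ← map_mul,
        mul_inv_cancel, map_one, mul_one, smul_smul, smul_smul, hmulR, Units.val_mul]
      congr 1; ring
    have h : ∑ q, (∑ y : N, c q * ((β y (θ q * (θ q₀)⁻¹) : Kˣ) : K)) • r (θ q) = 0 := by
      simp only [Finset.sum_smul]
      rw [Finset.sum_comm]
      exact Finset.sum_eq_zero fun y _ => hy y
    simp only [← Finset.mul_sum] at h
    have hoff : ∀ q ∈ Finset.univ, q ≠ q₀ →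
        (c q * ∑ y : N, ((β y (θ q * (θ q₀)⁻¹) : Kˣ) : K)) • r (θ q) = 0 := fun q _ hne => by
      rw [hsum _ fun hR => hne (by
        rw [← hθ q, ← hθ q₀]
        exact (QuotientGroup.eq.2 (show (θ q₀)⁻¹ * θ q ∈ R₀ by
          have := hR₀n.conj_mem _ hR (θ q₀)⁻¹
          simpa [mul_assoc] using this)).symm), mul_zero, zero_smul]
    rw [Finset.sum_eq_single q₀ hoff (fun h => absurd (Finset.mem_univ _) h),
      mul_inv_cancel, hsum1 1 (one_mem _)] at h
    exact (mul_eq_zero.1 ((smul_eq_zero.1 h).resolve_right (hrne _))).resolve_right hN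
  -- `S` lies in the algebra generated by the image
  let σq : N ⧸ R₀ →* N ⧸ R₀ := QuotientGroup.map R₀ R₀ D.σ.toMonoidHom fun x hx => hR₀σ x hx
  have hσq : ∀ x : N, σq (x : N ⧸ R₀) = ((D.σ x : N) : N ⧸ R₀) := fun x => rfl
  have hσqfix : ∀ q, σq q = q → q = 1 := fun q => by
    induction q using QuotientGroup.induction_on with
    | _ x =>
      intro h
      rw [hσq, QuotientGroup.eq] at h
      obtain ⟨m, hm, hfm⟩ := D.exists_fixed_coset hR₀σ (by simpa using inv_mem h : x⁻¹ * D.σ x ∈ R₀)
      have := mul_mem (hC _ hfm) (inv_mem hm)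
      rw [mul_inv_cancel_right] at this
      exact (QuotientGroup.eq_one_iff x).2 this
  set e : End K W := ∑ y : N, r y * S * r y⁻¹ with he
  set E₀ : End K W := ∑ y : N, r (y * (D.σ y)⁻¹) with hE₀
  have heE : e = E₀ * S := by
    rw [he, hE₀, Finset.sum_mul]
    refine Finset.sum_congr rfl fun y _ => ?_
    rw [mul_assoc, hSr', map_inv, map_mul, mul_assoc]
  obtain ⟨κ, hκ⟩ : ∃ κ : K, e = κ • 1 := by
    refine eq_scalar r S hirr e (fun x w => ?_) (fun w => ?_)
    · have h : r x * e = e * r x := by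
        rw [he, Finset.mul_sum, Finset.sum_mul]
        refine Fintype.sum_equiv (Equiv.mulLeft x) _ _ fun y => ?_
        simp only [Equiv.coe_mulLeft, mul_inv_rev, map_mul, mul_assoc]
        rw [← map_mul r x⁻¹, inv_mul_cancel, map_one, mul_one]
      exact LinearMap.congr_fun h w
    · have h : S * e = e * S := by
        rw [he, Finset.mul_sum, Finset.sum_mul]
        refine Fintype.sum_equiv D.σ.toEquiv _ _ fun y => ?_
        simp only [MulEquiv.toEquiv_eq_coe, MulEquiv.coe_toEquiv, ← mul_assoc, hSr']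
        rw [mul_assoc _ S (r y⁻¹), hSr', map_inv]
        simp only [mul_assoc]
      exact LinearMap.congr_fun h w
  have hR₀card : (Nat.card R₀ : K) ≠ 0 := fun h => hN (by
    obtain ⟨m, hm⟩ := Subgroup.card_subgroup_dvd_card R₀
    rw [hm, Nat.cast_mul, h, zero_mul])
  have hκ0 : κ ≠ 0 := by
    intro h0
    rw [h0, zero_smul, heE] at hκ
    have hE0 : E₀ = 0 := LinearMap.ext fun w => by
      obtain ⟨u, rfl⟩ := hSsurj w
      exact LinearMap.congr_fun hκ u
    have hexp : ∑ q, (∑ y ∈ Finset.univ.filter (fun y : N => ((y * (D.σ y)⁻¹ : N) : N ⧸ R₀) = q),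
        cf (y * (D.σ y)⁻¹)) • r (θ q) = 0 := by
      rw [← hE0, hE₀, ← Finset.sum_fiberwise Finset.univ (fun y : N => ((y * (D.σ y)⁻¹ : N) : N ⧸ R₀))]
      refine Finset.sum_congr rfl fun q _ => ?_
      rw [Finset.sum_smul]
      refine Finset.sum_congr rfl fun y hy => ?_
      rw [hcf (y * (D.σ y)⁻¹), (Finset.mem_filter.1 hy).2]
    have hco := Fintype.linearIndependent_iff.1 hli _ hexp 1
    have hset : Finset.univ.filter (fun y : N => ((y * (D.σ y)⁻¹ : N) : N ⧸ R₀) = 1) =
        Finset.univ.filter (fun y : N => y ∈ R₀) := Finset.filter_congr fun y _ => by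
      rw [QuotientGroup.eq_one_iff]
      refine ⟨fun h => (QuotientGroup.eq_one_iff y).1 (hσqfix _ ?_), fun h => mul_mem h (inv_mem (hR₀σ y h))⟩
      rw [hσq, QuotientGroup.eq]
      have := hR₀n.conj_mem _ h (D.σ y)⁻¹
      simpa [mul_assoc] using this
    have hval : ∀ y ∈ R₀, cf (y * (D.σ y)⁻¹) = cf 1 := fun y hy => by
      have hm : y * (D.σ y)⁻¹ ∈ R₀ := mul_mem hy (inv_mem (hR₀σ y hy))
      have h1 : r (y * (D.σ y)⁻¹) = r 1 := by
        rw [map_mul, ← hR₀fix y hy, ← map_mul, mul_inv_cancel]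
      have hq1 : ((y * (D.σ y)⁻¹ : N) : N ⧸ R₀) = ((1 : N) : N ⧸ R₀) := by
        rw [QuotientGroup.mk_one, QuotientGroup.eq_one_iff]; exact hm
      rw [hcf, hcf 1, hq1] at h1
      exact smul_left_injective K (hrne _) h1
    rw [hset, Finset.sum_congr rfl (fun y hy => hval y (Finset.mem_filter.1 hy).2), Finset.sum_const,
      nsmul_eq_mul, show ((Finset.univ.filter fun y : N => y ∈ R₀).card : K) = (Nat.card R₀ : K) by
        rw [Nat.card_eq_fintype_card, Fintype.card_subtype]] at hco
    rcases mul_eq_zero.1 hco with h | h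
    · exact hR₀card h
    · have := hcf 1
      rw [h, zero_smul] at this
      exact hrne 1 this
  have hE0inj : Function.Injective E₀ := by
    rw [LinearMap.injective_iff_surjective]
    intro w
    refine ⟨S (κ⁻¹ • w), ?_⟩
    rw [← Module.End.mul_apply, ← heE, hκ, LinearMap.smul_apply, Module.End.one_apply,
      smul_inv_smul₀ hκ0]
  have hcommS : ∀ T : End K W, (∀ x w, r x (T w) = T (r x w)) → ∀ w, S (T w) = T (S w) := fun T hT w => by
    apply hE0inj
    have hE : ∀ u, E₀ (T u) = T (E₀ u) := fun u => by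
      simp only [hE₀, LinearMap.sum_apply, map_sum]
      exact Finset.sum_congr rfl fun y _ => hT _ _
    rw [hE (S w), ← Module.End.mul_apply E₀ S, ← Module.End.mul_apply E₀ S, ← heE, hκ]
    simp
  have hspan : ∀ T : End K W, T ∈ Submodule.span K (Set.range fun q => r (θ q)) := by
    intro T
    let L : N → End K W := fun x => ∑ y : N, r y * (T * r x⁻¹) * r y⁻¹
    have hL : ∀ x, ∃ l : K, L x = l • 1 := fun x => by
      have hcz : ∀ z w, r z (L x w) = L x (r z w) := fun z w => by
        have h : r z * L x = L x * r z := by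
          rw [Finset.mul_sum, Finset.sum_mul]
          refine Fintype.sum_equiv (Equiv.mulLeft z) _ _ fun y => ?_
          simp only [Equiv.coe_mulLeft, mul_inv_rev, map_mul, mul_assoc]
          rw [← map_mul r z⁻¹, inv_mul_cancel, map_one, mul_one]
        exact LinearMap.congr_fun h w
      exact eq_scalar r S hirr _ hcz (hcommS _ hcz)
    choose l hl using hL
    have hsumx : ∑ x : N, l x • r x = ((Nat.card N : K) * Nat.card R₀) • T := by
      calc ∑ x : N, l x • r x = ∑ x : N, L x * r x :=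
            Finset.sum_congr rfl fun x _ => by rw [hl, smul_mul_assoc, one_mul]
        _ = ∑ y : N, (∑ x : N, ((β x y : Kˣ) : K)) • (r y * T * r y⁻¹) := by
            simp only [L, Finset.sum_mul, Finset.sum_smul]
            rw [Finset.sum_comm]
            refine Finset.sum_congr rfl fun y _ => Finset.sum_congr rfl fun x _ => ?_
            have hβi : β y⁻¹ x = β x y := by
              have h := hmulL y y⁻¹ x
              rw [mul_inv_cancel, h1L] at h
              rw [eq_inv_of_mul_eq_one_right h.symm, ← hanti]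
            rw [mul_assoc _ (r y⁻¹) (r x), hcomm y⁻¹ x, hβi, mul_smul_comm]
            congr 1
            simp only [mul_assoc]
            rw [← mul_assoc (r x⁻¹) (r x), ← map_mul r x⁻¹ x, inv_mul_cancel, map_one, one_mul]
        _ = _ := by
            rw [← Finset.sum_subset (Finset.filter_subset (fun y => y ∈ R₀) Finset.univ) (fun y _ hy => by
              rw [hsum y (fun h => hy (Finset.mem_filter.2 ⟨Finset.mem_univ y, h⟩)), zero_smul])]
            rw [Finset.sum_congr rfl (fun y hy => show _ = ((Nat.card N : K)) • T by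
              obtain ⟨α, hα, -⟩ := hscal y (Finset.mem_filter.1 hy).2
              have h1 : r y * r y⁻¹ = 1 := by rw [← map_mul, mul_inv_cancel, map_one]
              rw [hsum1 y (Finset.mem_filter.1 hy).2]
              congr 1
              calc r y * T * r y⁻¹ = T * (r y * r y⁻¹) := by
                    rw [hα, smul_mul_assoc, one_mul, smul_mul_assoc, smul_mul_assoc, mul_smul_comm, one_mul]
                _ = T := by rw [h1, mul_one]), Finset.sum_const, ← Nat.cast_smul_eq_nsmul K,
              smul_smul, Nat.card_eq_fintype_card (α := R₀), Fintype.card_subtype, mul_comm]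
    have hmem : ∑ x : N, l x • r x ∈ Submodule.span K (Set.range fun q => r (θ q)) :=
      Submodule.sum_mem _ fun x _ => by
        rw [hcf x]
        exact Submodule.smul_mem _ _ (Submodule.smul_mem _ _ (Submodule.subset_span ⟨_, rfl⟩))
    rw [hsumx] at hmem
    have := Submodule.smul_mem _ ((Nat.card N : K) * Nat.card R₀)⁻¹ hmem
    rwa [inv_smul_smul₀ (mul_ne_zero hN hR₀card)] at this
  let B : Basis (N ⧸ R₀) K (End K W) := Basis.mk hli (fun T _ => hspan T)
  have hdim : Nat.card (N ⧸ R₀) = finrank K W * finrank K W := by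
    rw [← Module.finrank_linearMap K K W W, Module.finrank_eq_card_basis B, Nat.card_eq_fintype_card]
  -- a primitive cube root of unity
  obtain ⟨ζ, hζe⟩ := Module.End.exists_eigenvalue S
  obtain ⟨v, hv⟩ := hζe.exists_hasEigenvector
  have hζ : ζ * ζ + ζ + 1 = 0 := by
    have h := hq v
    rw [hv.apply_eq_smul, map_smul, hv.apply_eq_smul, smul_smul] at h
    have h' : (ζ * ζ + ζ + 1) • v = 0 := by rw [add_smul, add_smul, one_smul]; exact h
    exact (smul_eq_zero.1 h').resolve_right hv.2
  have hζ3 : ζ * ζ * ζ = 1 := by linear_combination (ζ - 1) * hζ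
  have hζ0 : ζ ≠ 0 := fun h => by rw [h] at hζ3; simp at hζ3
  have hζ1 : ζ ≠ 1 := fun h => D.three (by rw [h] at hζ; linear_combination hζ)
  obtain ⟨a, b, hab, hEab⟩ := finrank_hom_eigen hζ D.three (LinearMap.ext hq : S * S + S + 1 = 0)
  let E : Submodule K (End K W) :=
    LinearMap.ker (LinearMap.mulLeft K S - ζ • LinearMap.mulRight K S)
  have hE : ∀ T, T ∈ E ↔ S * T = ζ • (T * S) := fun T => by
    simp [E, sub_eq_zero]
  -- the scalars of the action on the basis
  have hμex : ∀ q, ∃ m : K, r (D.σ (θ q)) = m • r (θ (σq q)) := fun q => by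
    refine ⟨cf (D.σ (θ q)), ?_⟩
    conv_lhs => rw [hcf (D.σ (θ q))]
    rw [← hσq, hθ]
  choose μ hμ using hμex
  have hμ1 : μ 1 = 1 := by
    have h := hμ 1
    rw [map_one, hR₀fix _ ((QuotientGroup.eq_one_iff _).1 (hθ 1))] at h
    exact (smul_left_injective K (hrne (θ 1)) ((one_smul K _).trans h)).symm
  have hμσ : ∀ q, r (D.σ (D.σ (θ q))) = (μ q * μ (σq q)) • r (θ (σq (σq q))) := fun q => by
    refine LinearMap.ext fun w => ?_
    obtain ⟨u, rfl⟩ := hSsurj w
    rw [← hSr, hμ q, LinearMap.smul_apply, map_smul, hSr, hμ (σq q), LinearMap.smul_apply,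
      LinearMap.smul_apply, smul_smul]
  have hσq3 : ∀ q, σq (σq (σq q)) = q := fun q => by
    induction q using QuotientGroup.induction_on with
    | _ x => rw [hσq, hσq, hσq, D.σ3]
  have hμ3 : ∀ q, μ q * μ (σq q) * μ (σq (σq q)) = 1 := fun q => by
    have h : r (D.σ (D.σ (D.σ (θ q)))) = (μ q * μ (σq q) * μ (σq (σq q))) • r (θ q) := by
      refine LinearMap.ext fun w => ?_
      obtain ⟨u, rfl⟩ := hSsurj w
      rw [← hSr, hμσ q, LinearMap.smul_apply, map_smul, hSr, hμ (σq (σq q)), hσq3, LinearMap.smul_apply,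
        LinearMap.smul_apply, smul_smul]
    rw [D.σ3] at h
    exact (smul_left_injective K (hrne (θ q)) ((one_smul K _).trans h)).symm
  have hmemE : ∀ c : N ⧸ R₀ → K, (∑ q, c q • r (θ q)) ∈ E ↔ ∀ q, ζ * c (σq q) = c q * μ q := fun c => by
    rw [hE, Finset.mul_sum, Finset.sum_mul, Finset.smul_sum]
    have hl : ∑ q, S * (c q • r (θ q)) = (∑ q, (c q * μ q) • r (θ (σq q))) * S := by
      rw [Finset.sum_mul]
      exact Finset.sum_congr rfl fun q _ => by rw [mul_smul_comm, hSr', hμ, smul_mul_assoc, smul_mul_assoc, smul_smul]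
    have hr : ∑ q, ζ • (c q • r (θ q) * S) = (∑ q, (ζ * c q) • r (θ q)) * S := by
      rw [Finset.sum_mul]
      exact Finset.sum_congr rfl fun q _ => by rw [smul_mul_assoc, smul_mul_assoc, smul_smul]
    let σe : (N ⧸ R₀) ≃ (N ⧸ R₀) := { toFun := σq, invFun := fun q => σq (σq q), left_inv := hσq3, right_inv := hσq3 }
    have hre : ∑ q, (ζ * c q) • r (θ q) = ∑ q, (ζ * c (σq q)) • r (θ (σq q)) :=
      (Fintype.sum_equiv σe _ _ fun q => rfl).symm
    rw [hl, hr, hre]
    constructor
    · intro h q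
      have h' : ∑ q, (c q * μ q) • r (θ (σq q)) = ∑ q, (ζ * c (σq q)) • r (θ (σq q)) :=
        LinearMap.ext fun w => by
          obtain ⟨u, rfl⟩ := hSsurj w
          exact LinearMap.congr_fun h u
      have hli' : LinearIndependent K fun q => r (θ (σq q)) := hli.comp σq (fun x y e => by
        have := congrArg (σq ∘ σq) e
        simpa [hσq3] using this)
      have := Fintype.linearIndependent_iff.1 hli' (fun q => c q * μ q - ζ * c (σq q)) (by
        simp only [sub_smul, Finset.sum_sub_distrib]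
        exact sub_eq_zero.2 h') q
      exact (sub_eq_zero.1 this).symm
    · intro h
      simp only [h]
  obtain ⟨P, hP1, hP⟩ := exists_orbit_reps (fun q => σq q) hσq3 (map_one σq) hσqfix
  have hPc : 3 * P.card + 1 = Nat.card (N ⧸ R₀) := by
    let f : P × Fin 3 → {q : N ⧸ R₀ // q ≠ 1} := fun x => ⟨(fun q => σq q)^[(x.2 : ℕ)] x.1, by
      intro e
      have h1 : ∀ i : ℕ, ∀ z, (fun q => σq q)^[i] z = 1 → z = 1 := fun i => by
        induction i with
        | zero => exact fun z hz => hz
        | succ i ih =>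
          intro z hz
          rw [Function.iterate_succ_apply] at hz
          have := ih _ hz
          rw [← hσq3 z, show σq z = 1 from this, map_one, map_one]
      exact hP1 _ x.1.2 (h1 _ _ e)⟩
    have hf : Function.Bijective f := by
      refine ⟨fun x y e => ?_, fun q => ?_⟩
      · obtain ⟨z, -, hz⟩ := hP (f x) (f x).2
        exact (hz x rfl).trans (hz y (congrArg Subtype.val e).symm).symm
      · obtain ⟨x, hx, -⟩ := hP q q.2
        exact ⟨x, Subtype.ext hx⟩
    have h := Fintype.card_congr (Equiv.ofBijective f hf)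
    rw [Fintype.card_prod, Fintype.card_fin, Fintype.card_coe, Fintype.card_subtype_compl,
      Fintype.card_subtype_eq] at h
    rw [Nat.card_eq_fintype_card]
    have : 0 < Fintype.card (N ⧸ R₀) := Fintype.card_pos
    omega
  let Φ : E →ₗ[K] (P → K) :=
    { toFun := fun T p => B.repr (T : End K W) p
      map_add' := fun S T => funext fun p => by simp
      map_smul' := fun t T => funext fun p => by simp }
  have hΦ : Function.Bijective Φ := by
    have hrep : ∀ T : End K W, T = ∑ q, B.repr T q • r (θ q) := fun T => by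
      conv_lhs => rw [← B.sum_repr T]
      exact Finset.sum_congr rfl fun q _ => by rw [Basis.mk_apply]
    constructor
    · rw [← LinearMap.ker_eq_bot, LinearMap.ker_eq_bot']
      intro T hT
      have hc := (hmemE (B.repr (T : End K W))).1 (by rw [← hrep]; exact T.2)
      refine Subtype.ext (B.repr.injective (Finsupp.ext fun q => ?_))
      rw [ZeroMemClass.coe_zero, map_zero, Finsupp.zero_apply]
      by_cases hq1 : q = 1
      · subst hq1
        have h := hc 1
        rw [map_one, hμ1, mul_one] at h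
        have : (ζ - 1) * B.repr (T : End K W) 1 = 0 := by rw [sub_mul, one_mul, h, sub_self]
        exact (mul_eq_zero.1 this).resolve_left (sub_ne_zero.2 hζ1)
      · obtain ⟨⟨p, i⟩, hx, -⟩ := hP q hq1
        rw [← hx]
        have h0 : B.repr (T : End K W) p = 0 := congrFun hT p
        clear hx
        generalize (i : ℕ) = k
        induction k with
        | zero => exact h0
        | succ k ih =>
          rw [Function.iterate_succ_apply']
          have h := hc ((fun q => σq q)^[k] p)
          rw [ih, zero_mul] at h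
          exact (mul_eq_zero.1 h).resolve_left hζ0
    · intro g
      let co : P × Fin 3 → K := fun x => ![g x.1, ζ * ζ * μ x.1 * g x.1,
        ζ * (μ x.1 * μ (σq x.1)) * g x.1] x.2
      have hex : ∀ q, q ≠ 1 → ∃ x : P × Fin 3, (fun q => σq q)^[(x.2 : ℕ)] x.1 = q := fun q hq => (hP q hq).exists
      let c : N ⧸ R₀ → K := fun q => if hq : q ≠ 1 then co (hex q hq).choose else 0
      have hcv : ∀ x : P × Fin 3, c ((fun q => σq q)^[(x.2 : ℕ)] x.1) = co x := fun x => by
        have hne : (fun q => σq q)^[(x.2 : ℕ)] (x.1 : N ⧸ R₀) ≠ 1 := by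
          intro e
          have h1 : ∀ i : ℕ, ∀ z, (fun q => σq q)^[i] z = 1 → z = 1 := fun i => by
            induction i with
            | zero => exact fun z hz => hz
            | succ i ih =>
              intro z hz
              rw [Function.iterate_succ_apply] at hz
              have := ih _ hz
              rw [← hσq3 z, show σq z = 1 from this, map_one, map_one]
          exact hP1 _ x.1.2 (h1 _ _ e)
        simp only [c, dif_pos hne]
        obtain ⟨z, -, hz⟩ := hP _ hne
        rw [hz _ (hex _ hne).choose_spec, ← hz x rfl]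
      have hc1 : c 1 = 0 := by simp [c]
      have hT : (∑ q, c q • r (θ q)) ∈ E := (hmemE c).2 fun q => by
        by_cases hq1 : q = 1
        · subst hq1; rw [map_one, hc1, mul_zero, zero_mul]
        · obtain ⟨⟨p, i⟩, hx, -⟩ := hP q hq1
          rw [← hx]
          clear hx
          have h0 : c p = co (p, 0) := hcv (p, 0)
          have h1 : c (σq p) = co (p, 1) := hcv (p, 1)
          have h2 : c (σq (σq p)) = co (p, 2) := hcv (p, 2)
          fin_cases i <;> simp only [Fin.val_zero, Fin.val_one, Fin.val_two, Function.iterate_zero,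
            Function.iterate_succ, Function.comp_apply, id, Fin.isValue] <;>
            simp only [h0, h1, h2, hσq3, co, Matrix.cons_val_zero, Matrix.cons_val_one, Matrix.cons_val,
              Matrix.head_cons, Fin.isValue]
          · linear_combination (μ p * g p) * hζ3
          · ring
          · linear_combination (-(ζ * g p)) * hμ3 p
      refine ⟨⟨_, hT⟩, funext fun p => ?_⟩
      show B.repr (∑ q, c q • r (θ q)) p = g p
      rw [show (∑ q, c q • r (θ q)) = ∑ q, c q • B q from Finset.sum_congr rfl fun q _ => by rw [Basis.mk_apply],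
        B.repr_sum_self]
      exact hcv (p, 0)
  have hab3 : a * b = P.card := by
    rw [← hEab E hE, (LinearEquiv.ofBijective Φ hΦ).finrank_eq, Module.finrank_fintype_fun_eq_card, Fintype.card_coe]
  have hoddD : ¬ 2 ∣ Nat.card (N ⧸ R₀) := fun h =>
    absurd (Nat.eq_one_of_dvd_coprimes D.odd (h.trans (Subgroup.card_quotient_dvd_card R₀)) dvd_rfl) (by norm_num)
  have hD1 : Nat.card (N ⧸ R₀) = 1 := by
    have hle : (a + b) * (a + b) ≤ 4 := by
      rw [← hab, ← hPc, ← hab3] at hdim
      nlinarith [Nat.zero_le ((a - b) + (b - a)), sq_nonneg ((a : ℤ) - b)]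
    have h2 : a + b ≤ 2 := by nlinarith
    rw [hdim, ← hab] at hoddD ⊢
    interval_cases (a + b) <;> first | rfl | (exfalso; apply hoddD; norm_num)
  intro x y
  have hx : x ∈ R₀ := by
    rw [Subgroup.index_eq_one.1 hD1]; exact Subgroup.mem_top x
  exact hx y

/-- An element of order three without fixed vectors makes every commutator act trivially. -/
theorem quadratic (hN : (Nat.card N : K) ≠ 0) (r : N →* End K W) (S : End K W)
    (hS3 : ∀ w, S (S (S w)) = w) (hSr : ∀ x w, S (r x w) = r (D.σ x) (S w))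
    (hq : ∀ w, S (S w) + S w + w = 0) (β : N → N → Kˣ)
    (hβ : ∀ x y, r ⁅x, y⁆ = ((β x y : Kˣ) : K) • 1) (hclass : ∀ x y z : N, Commute z ⁅x, y⁆) (x y : N) :
    r ⁅x, y⁆ = 1 := by
  rcases subsingleton_or_nontrivial W with hW | hW
  · exact LinearMap.ext fun w => Subsingleton.elim _ _
  obtain ⟨U, -, hU⟩ := exists_minimal_le_of_wellFoundedLT
    (fun U : Submodule K W => U ≠ ⊥ ∧ (∀ x, ∀ w ∈ U, r x w ∈ U) ∧ ∀ w ∈ U, S w ∈ U) ⊤
    ⟨top_ne_bot, fun _ _ _ => Submodule.mem_top, fun _ _ => Submodule.mem_top⟩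
  obtain ⟨⟨hU0, hUr, hUS⟩, hmin⟩ := hU
  haveI : Nontrivial U := Submodule.nontrivial_iff_ne_bot.2 hU0
  let r' : N →* End K U :=
    { toFun := fun z => (r z).restrict (hUr z)
      map_one' := LinearMap.ext fun u => Subtype.ext (by simp)
      map_mul' := fun a b => LinearMap.ext fun u => Subtype.ext (by simp) }
  have h := D.quadratic_irreducible hN r' (S.restrict hUS) (fun u => Subtype.ext (hS3 u))
    (fun z u => Subtype.ext (hSr z u)) (fun u => Subtype.ext (hq u)) β
    (fun a b => LinearMap.ext fun u => Subtype.ext (by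
      show r ⁅a, b⁆ (u : W) = _
      rw [hβ]; rfl)) hclass (fun X hXr hXS => ?_) x y
  · rw [hβ, h, Units.val_one, one_smul]
  · by_cases hX : X = ⊥
    · exact Or.inl hX
    refine Or.inr ?_
    have hle : X.map U.subtype ≤ U := Submodule.map_subtype_le _ _
    have hge := hmin ⟨fun e => hX (by
        rw [← Submodule.comap_map_eq_of_injective U.injective_subtype X, e, Submodule.comap_bot, Submodule.ker_subtype]),
      (by rintro z _ ⟨w, hw, rfl⟩; exact ⟨r' z w, hXr z w hw, rfl⟩),
      (by rintro _ ⟨w, hw, rfl⟩; exact ⟨_, hXS w hw, rfl⟩)⟩ hle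
    refine eq_top_iff.2 fun u _ => ?_
    obtain ⟨w, hw, hwu⟩ := hge u.2
    exact (Subtype.ext hwu : w = u) ▸ hw

end Data

end Cfsg.Agent.SolvStruct.S3Fpf
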