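import Cfsg.Agent.SolvStruct.S3Fpf.Core
import Cfsg.Agent.SolvStruct.S3Fpf.Quadratic

/-!
# Groups of class two act as abelian groups
-/

set_option autoImplicit false

namespace Cfsg.Agent.SolvStruct.S3Fpf

open scoped commutatorElement

namespace Data

variable {K : Type*} [Field K] [IsAlgClosed K] {V : Type*} [AddCommGroup V] [Module K V]
  [FiniteDimensional K V] {N : Type*} [Group N] [Finite N] (D : Data K V N)
include D

/-- In class two every commutator acts trivially. -/
theorem class_two (hN : (Nat.card N : K) ≠ 0) (hclass : ∀ x y z : N, Commute z ⁅x, y⁆) (x y : N) :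
    D.ρ ⁅x, y⁆ = 1 := by
  classical
  let A : Subgroup N := Subgroup.center N
  haveI : IsMulCommutative A := inferInstance
  haveI : Fintype A := Fintype.ofFinite A
  have hn : (Fintype.card A : K) ≠ 0 := fun h => hN (by
    obtain ⟨m, hm⟩ := Subgroup.card_subgroup_dvd_card A
    rw [hm, Nat.cast_mul, Nat.card_eq_fintype_card, h, zero_mul])
  have hinv : ∀ f : N ≃* N, ∀ a ∈ A, f a ∈ A := fun f a ha => Subgroup.mem_center_iff.2 fun g => by
    obtain ⟨g, rfl⟩ := f.surjective g
    rw [← map_mul, ← map_mul, Subgroup.mem_center_iff.1 ha g]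
  have hσA := hinv D.σ
  have hτA := hinv D.τ
  have hcA : ∀ a b, ⁅a, b⁆ ∈ A := fun a b => Subgroup.mem_center_iff.2 fun g => (hclass a b g).eq
  have hshift : ∀ (n : N) (χ : A →* Kˣ), shift A n χ = χ := fun n χ =>
    MonoidHom.ext fun a => congrArg χ (Subtype.ext (by
      show n⁻¹ * (a : N) * n = a
      rw [mul_assoc, ← Subgroup.mem_center_iff.1 a.2 n, inv_mul_cancel_left]))
  refine LinearMap.ext fun u => ?_
  have key : ∀ χ : A →* Kˣ, Wt D.ρ A χ ≤ LinearMap.ker (D.ρ ⁅x, y⁆ - 1) := by
    intro χ v hv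
    rw [LinearMap.mem_ker, LinearMap.sub_apply, Module.End.one_apply, sub_eq_zero]
    by_cases hv0 : v = 0
    · rw [hv0, map_zero]
    by_cases hσχ : D.sC hσA χ = χ
    · by_cases hτχ : D.tC hτA χ = χ
      · have h := D.fixed_weight_trivial hσA hτA hn hσχ hτχ
        have h2 := hv ⟨_, hcA x y⟩
        rw [h, MonoidHom.one_apply, Units.val_one, one_smul] at h2
        exact h2
      -- `σ` fixes the weight and `τ` moves it
      have hσ' : D.sC hσA (D.tC hτA χ) = D.tC hτA χ := by
        have h := D.tsC hσA hτA χ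
        rw [hσχ] at h
        conv_rhs => rw [h]
        conv_lhs => rw [h]
        rw [D.sC3]
        exact h
      have hρW : ∀ n, ∀ w ∈ Wt D.ρ A χ, D.ρ n w ∈ Wt D.ρ A χ := fun n w hw => by
        have := D.ρ_mem_Wt hw n
        rwa [hshift] at this
      have hsW : ∀ w ∈ Wt D.ρ A χ, D.s w ∈ Wt D.ρ A χ := fun w hw => by
        have := D.s_mem_Wt hσA hw
        rwa [hσχ] at this
      have hq : ∀ w ∈ Wt D.ρ A χ, D.s (D.s w) + D.s w + w = 0 := by
        intro w hw
        have hs2 : ∀ {z}, z ∈ Wt D.ρ A (D.tC hτA χ) → D.s z ∈ Wt D.ρ A (D.tC hτA χ) := fun {z} hz => by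
          have := D.s_mem_Wt hσA hz
          rwa [hσ'] at this
        have ht := D.t_mem_Wt hτA hw
        have h0 := D.sum_s_eq_zero (D.t_add w)
        simp only [map_add] at h0
        have := eq_zero_of_disjoint D.ρ A hn (P := {χ}) (Q := {D.tC hτA χ}) (R := ∅)
          (fun ψ hψ h => hτχ ((Set.mem_singleton_iff.1 h).symm.trans (Set.mem_singleton_iff.1 hψ)))
          (fun _ _ h => h)
          (le_WtSum D.ρ A (Set.mem_singleton χ) (add_mem (add_mem (hsW _ (hsW w hw)) (hsW w hw)) hw))
          (le_WtSum D.ρ A (Set.mem_singleton (D.tC hτA χ)) (add_mem (add_mem (hs2 (hs2 ht)) (hs2 ht)) ht))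
          (zero_mem _) (z := 0) (by rw [add_zero, ← h0]; abel)
        exact this
      let r : N →* Module.End K (Wt D.ρ A χ) :=
        { toFun := fun n => (D.ρ n).restrict (hρW n)
          map_one' := LinearMap.ext fun w => Subtype.ext (by simp)
          map_mul' := fun a b => LinearMap.ext fun w => Subtype.ext (by simp) }
      have h := D.quadratic hN r (D.s.restrict hsW) (fun w => Subtype.ext (D.s3 w))
        (fun n w => Subtype.ext (D.sρ n w)) (fun w => Subtype.ext (hq w w.2))
        (fun a b => χ ⟨⁅a, b⁆, hcA a b⟩)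
        (fun a b => LinearMap.ext fun w => Subtype.ext (w.2 ⟨⁅a, b⁆, hcA a b⟩)) hclass x y
      exact congrArg Subtype.val (LinearMap.congr_fun h ⟨v, hv⟩)
    · -- an involution fixes the weight
      obtain ⟨D', hρ', hσA', hτA', hS, hτχ⟩ : ∃ (D' : Data K V N) (_ : D'.ρ = D.ρ)
          (hσA' : ∀ a ∈ A, D'.σ a ∈ A) (hτA' : ∀ a ∈ A, D'.τ a ∈ A),
          (∀ ψ, D'.sC hσA' ψ = D.sC hσA ψ) ∧ D'.tC hτA' χ = χ := by
        rcases D.exists_involution_fixes hσA hτA hn hσχ hv hv0 with h | h | h
        · exact ⟨D, rfl, hσA, hτA, fun _ => rfl, h⟩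
        · exact ⟨D.rot, rfl, hσA, fun a ha => hσA _ (hτA a ha), fun _ => rfl, by
            rw [D.rot_tC hσA hτA]; exact h⟩
        · exact ⟨D.rot.rot, rfl, hσA, fun a ha => hσA _ (hσA _ (hτA a ha)), fun _ => rfl, by
            have := D.rot.rot_tC (A := A) hσA (fun a ha => hσA _ (hτA a ha)) χ
            rw [D.rot_tC hσA hτA] at this
            exact this.trans h⟩
      have h := D'.disjoint_case hσA' hτA' hn {χ} (fun n ψ hψ => by rw [hshift]; exact hψ)
        (fun ψ hψ => by rw [Set.mem_singleton_iff.1 hψ, hτχ]; exact Set.mem_singleton χ)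
        (fun ψ hψ h => hσχ (by
          rw [Set.mem_singleton_iff.1 hψ, hS] at h
          exact Set.mem_singleton_iff.1 h))
        (Y := ⊤) (fun _ _ => Subgroup.mem_top _)
        (fun n a _ b _ => by
          rw [commutatorElement_mul_right_eq_mul_conj, mul_assoc _ a, (hclass n b a).eq, ← mul_assoc,
            mul_inv_cancel_right])
        x (Subgroup.mem_top y) (w := v)
        (le_WtSum D'.ρ A (Set.mem_singleton χ) (show v ∈ Wt D'.ρ A χ by rw [hρ']; exact hv))
      rwa [hρ'] at h
  have h := span_weights D.ρ A hn key u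
  rw [LinearMap.mem_ker, LinearMap.sub_apply, Module.End.one_apply, sub_eq_zero] at h
  rw [Module.End.one_apply]
  exact h

end Data

end Cfsg.Agent.SolvStruct.S3Fpf
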