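import Mathlib
import Cfsg.Agent.OddLocal.FrobeniusModule

/-!
# Weight spaces of an abelian subgroup of order invertible in the field
-/

set_option autoImplicit false

namespace Cfsg.Agent.SolvStruct.S3Fpf

open Cfsg.Agent.OddLocal

variable {K : Type*} [Field K] {V : Type*} [AddCommGroup V] [Module K V] {N : Type*} [Group N] [Finite N]
  (ρ : N →* Module.End K V) (A : Subgroup N)

/-- The weight space of a character of `A`. -/
def Wt (χ : A →* Kˣ) : Submodule K V where
  carrier := {v | ∀ a : A, ρ a v = ((χ a : Kˣ) : K) • v}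
  zero_mem' := fun a => by simp
  add_mem' := fun {v w} hv hw a => by rw [map_add, hv a, hw a, smul_add]
  smul_mem' := fun t v hv a => by rw [map_smul, hv a, smul_comm]

/-- The sum of the weight spaces of a set of characters. -/
def WtSum (P : Set (A →* Kˣ)) : Submodule K V := ⨆ χ ∈ P, Wt ρ A χ

theorem mem_Wt {χ : A →* Kˣ} {v : V} : v ∈ Wt ρ A χ ↔ ∀ a : A, ρ a v = ((χ a : Kˣ) : K) • v := Iff.rfl

theorem le_WtSum {P : Set (A →* Kˣ)} {χ : A →* Kˣ} (h : χ ∈ P) : Wt ρ A χ ≤ WtSum ρ A P :=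
  le_iSup₂ (f := fun χ (_ : χ ∈ P) => Wt ρ A χ) χ h

theorem map_wtSum {P Q : Set (A →* Kˣ)} (T : Module.End K V) (F : (A →* Kˣ) → (A →* Kˣ))
    (hT : ∀ χ, ∀ v ∈ Wt ρ A χ, T v ∈ Wt ρ A (F χ)) (hPQ : ∀ χ ∈ P, F χ ∈ Q) {v : V}
    (hv : v ∈ WtSum ρ A P) : T v ∈ WtSum ρ A Q := by
  have : WtSum ρ A P ≤ (WtSum ρ A Q).comap T :=
    iSup₂_le fun χ hχ w hw => le_WtSum ρ A (hPQ χ hχ) (hT χ w hw)
  exact this hv

section invertible

variable [Fintype A] (hn : (Fintype.card A : K) ≠ 0)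
include hn

theorem eps_self {χ : A →* Kˣ} {v : V} (hv : v ∈ Wt ρ A χ) : FrobeniusModule.eps A ρ χ v = v := by
  rw [FrobeniusModule.eps, LinearMap.smul_apply, LinearMap.sum_apply]
  rw [Finset.sum_congr rfl fun z _ => show (((χ z⁻¹ : Kˣ) : K) • ρ z) v = v by
    rw [LinearMap.smul_apply, hv z, smul_smul, ← Units.val_mul, ← map_mul, inv_mul_cancel, map_one,
      Units.val_one, one_smul]]
  rw [Finset.sum_const, Finset.card_univ, ← Nat.cast_smul_eq_nsmul K, inv_smul_smul₀ hn]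

theorem eps_other {χ ψ : A →* Kˣ} (hne : χ ≠ ψ) {v : V} (hv : v ∈ Wt ρ A ψ) :
    FrobeniusModule.eps A ρ χ v = 0 := by
  classical
  rw [← eps_self ρ A hn hv, ← Module.End.mul_apply, FrobeniusModule.eps_mul_eps hn, if_neg hne]
  rfl

theorem eps_mem (χ : A →* Kˣ) (v : V) : FrobeniusModule.eps A ρ χ v ∈ Wt ρ A χ := fun a => by
  rw [← Module.End.mul_apply, FrobeniusModule.map_mul_eps, LinearMap.smul_apply]

variable [IsSepClosed K] [IsMulCommutative A]

theorem finite_chars : Finite (A →* Kˣ) := by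
  let : CommGroup A := { (inferInstance : Group A) with mul_comm := mul_comm' }
  haveI : NeZero (Monoid.exponent A : K) := ⟨fun h => hn (by
    obtain ⟨c, hc⟩ := Group.exponent_dvd_nat_card (G := A)
    rw [← Nat.card_eq_fintype_card, hc, Nat.cast_mul, h, zero_mul])⟩
  refine Nat.finite_of_card_ne_zero ?_
  rw [CommGroup.card_monoidHom_of_hasEnoughRootsOfUnity]
  exact Nat.card_pos.ne'

theorem sum_eps [Fintype (A →* Kˣ)] : ∑ χ : A →* Kˣ, FrobeniusModule.eps A ρ χ = 1 := by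
  classical
  let : CommGroup A := { (inferInstance : Group A) with mul_comm := mul_comm' }
  haveI : NeZero (Monoid.exponent A : K) := ⟨fun h => hn (by
    obtain ⟨c, hc⟩ := Group.exponent_dvd_nat_card (G := A)
    rw [← Nat.card_eq_fintype_card, hc, Nat.cast_mul, h, zero_mul])⟩
  have hzero : ∀ z : A, z ≠ 1 → ∑ χ : A →* Kˣ, ((χ z : Kˣ) : K) = 0 := by
    intro z hz
    obtain ⟨φ, hφ⟩ := CommGroup.exists_apply_ne_one_of_hasEnoughRootsOfUnity A K hz
    have e : ((φ z : Kˣ) : K) * ∑ χ : A →* Kˣ, ((χ z : Kˣ) : K) = ∑ χ : A →* Kˣ, ((χ z : Kˣ) : K) := by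
      rw [Finset.mul_sum]
      exact Fintype.sum_equiv (Equiv.mulLeft φ) _ _ fun χ => by simp
    by_contra hne
    exact hφ (Units.ext (mul_right_cancel₀ hne (e.trans (one_mul _).symm)))
  calc ∑ χ : A →* Kˣ, FrobeniusModule.eps A ρ χ
      = (Fintype.card A : K)⁻¹ • ∑ z : A, (∑ χ : A →* Kˣ, ((χ z⁻¹ : Kˣ) : K)) • ρ z := by
        simp only [FrobeniusModule.eps, ← Finset.smul_sum]
        rw [Finset.sum_comm]
        simp only [Finset.sum_smul]
    _ = (Fintype.card A : K)⁻¹ • ((Fintype.card A : K) • (1 : Module.End K V)) := by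
        rw [Finset.sum_eq_single (1 : A) (fun z _ hz => by rw [hzero _ (inv_ne_one.mpr hz), zero_smul])
          (fun h1 => absurd (Finset.mem_univ _) h1)]
        have hc : Fintype.card (A →* Kˣ) = Fintype.card A := by
          rw [← Nat.card_eq_fintype_card, ← Nat.card_eq_fintype_card,
            CommGroup.card_monoidHom_of_hasEnoughRootsOfUnity]
        simp [hc]
    _ = 1 := inv_smul_smul₀ hn 1

/-- The weight vectors span. -/
theorem span_weights {P : Submodule K V} (h : ∀ χ, Wt ρ A χ ≤ P) (v : V) : v ∈ P := by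
  haveI := finite_chars (K := K) A hn
  haveI := Fintype.ofFinite (A →* Kˣ)
  have e := LinearMap.congr_fun (sum_eps ρ A hn) v
  rw [LinearMap.sum_apply, Module.End.one_apply] at e
  rw [← e]
  exact Submodule.sum_mem _ fun χ _ => h χ (eps_mem ρ A hn χ v)

/-- Sums over disjoint sets of weights are independent. -/
theorem eq_zero_of_disjoint {P Q R : Set (A →* Kˣ)} (hQ : ∀ χ ∈ P, χ ∉ Q) (hR : ∀ χ ∈ P, χ ∉ R)
    {x y z : V} (hx : x ∈ WtSum ρ A P) (hy : y ∈ WtSum ρ A Q) (hz : z ∈ WtSum ρ A R)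
    (h0 : x + y + z = 0) : x = 0 := by
  classical
  haveI := finite_chars (K := K) A hn
  haveI := Fintype.ofFinite (A →* Kˣ)
  set E := ∑ χ ∈ P.toFinset, FrobeniusModule.eps A ρ χ with hE
  have hin : ∀ {v}, v ∈ WtSum ρ A P → E v = v := fun {v} hv => by
    have : WtSum ρ A P ≤ LinearMap.eqLocus E LinearMap.id := iSup₂_le fun χ hχ w hw => by
      show E w = w
      rw [hE, LinearMap.sum_apply, Finset.sum_eq_single χ
        (fun ψ _ hne => eps_other ρ A hn hne hw) (fun h => absurd (Set.mem_toFinset.2 hχ) h),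
        eps_self ρ A hn hw]
    exact this hv
  have hout : ∀ {S : Set (A →* Kˣ)} {v}, (∀ χ ∈ P, χ ∉ S) → v ∈ WtSum ρ A S → E v = 0 := fun {S v} hS hv => by
    have : WtSum ρ A S ≤ LinearMap.ker E := iSup₂_le fun χ hχ w hw => by
      rw [LinearMap.mem_ker, hE, LinearMap.sum_apply]
      exact Finset.sum_eq_zero fun ψ hψ =>
        eps_other ρ A hn (show ψ ≠ χ from fun e => hS ψ (Set.mem_toFinset.1 hψ) (by rw [e]; exact hχ)) hw
    exact this hv
  have h1 := congrArg E h0
  rwa [map_add, map_add, hin hx, hout hQ hy, hout hR hz, add_zero, add_zero, map_zero] at h1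

end invertible

end Cfsg.Agent.SolvStruct.S3Fpf
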