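import Cfsg.Agent.SolvStruct.S3Fpf.Data
import Cfsg.Agent.SolvStruct.S3Fpf.Weights

/-!
# Invariant abelian normal subgroups of coprime order are central
-/

set_option autoImplicit false

namespace Cfsg.Agent.SolvStruct.S3Fpf

open scoped commutatorElement

variable {K : Type*} [Field K] {V : Type*} [AddCommGroup V] [Module K V] {N : Type*} [Group N] [Finite N]

/-- The character translated by an element of `N`. -/
def shift (A : Subgroup N) [A.Normal] (n : N) (χ : A →* Kˣ) : A →* Kˣ where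
  toFun a := χ ⟨n⁻¹ * a * n, by simpa using (inferInstance : A.Normal).conj_mem a a.2 n⁻¹⟩
  map_one' := by rw [← map_one χ]; congr 1; exact Subtype.ext (by simp)
  map_mul' a b := by rw [← map_mul]; congr 1; exact Subtype.ext (by simp [mul_assoc])

/-- The character composed with the inverse of an automorphism. -/
def twist (A : Subgroup N) (φ : N ≃* N) (hφ : ∀ a ∈ A, φ a ∈ A) (χ : A →* Kˣ) : A →* Kˣ where
  toFun a := χ ⟨φ a, hφ a a.2⟩
  map_one' := by rw [← map_one χ]; congr 1; exact Subtype.ext (by simp)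
  map_mul' a b := by rw [← map_mul]; congr 1; exact Subtype.ext (by simp)

variable {A : Subgroup N} [A.Normal]

omit [Finite N] in
theorem shift_apply (n : N) (χ : A →* Kˣ) (a : A) (h : n⁻¹ * (a : N) * n ∈ A) :
    shift A n χ a = χ ⟨n⁻¹ * a * n, h⟩ := rfl

omit [Finite N] in
theorem shift_mul (m n : N) (χ : A →* Kˣ) : shift A (m * n) χ = shift A m (shift A n χ) :=
  MonoidHom.ext fun a => congrArg χ (Subtype.ext (by simp [mul_assoc]))

omit [Finite N] in
theorem shift_one (χ : A →* Kˣ) : shift A 1 χ = χ :=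
  MonoidHom.ext fun a => congrArg χ (Subtype.ext (by simp))

namespace Data

variable (D : Data K V N)

omit [Finite N] in
theorem ρ_mem_Wt {χ : A →* Kˣ} {v : V} (hv : v ∈ Wt D.ρ A χ) (n : N) :
    D.ρ n v ∈ Wt D.ρ A (shift A n χ) := fun a => by
  have h : n⁻¹ * (a : N) * n ∈ A := by simpa using (inferInstance : A.Normal).conj_mem a a.2 n⁻¹
  rw [← Module.End.mul_apply, ← map_mul, show (a : N) * n = n * (n⁻¹ * a * n) by group, map_mul,
    Module.End.mul_apply, hv ⟨_, h⟩, map_smul]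
  rfl

variable (hσA : ∀ a ∈ A, D.σ a ∈ A) (hτA : ∀ a ∈ A, D.τ a ∈ A)

/-- The action of `σ` on characters. -/
def sC (χ : A →* Kˣ) : A →* Kˣ :=
  twist A (D.σ.trans D.σ) (fun a ha => hσA _ (hσA a ha)) χ

/-- The action of `τ` on characters. -/
def tC (χ : A →* Kˣ) : A →* Kˣ := twist A D.τ hτA χ

omit [Finite N] in
theorem s_mem_Wt {χ : A →* Kˣ} {v : V} (hv : v ∈ Wt D.ρ A χ) : D.s v ∈ Wt D.ρ A (D.sC hσA χ) := fun a => by
  have := congrArg D.s (hv ⟨_, hσA _ (hσA a a.2)⟩)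
  rw [D.sρ, D.σ3, map_smul] at this
  exact this

omit [Finite N] in
theorem t_mem_Wt {χ : A →* Kˣ} {v : V} (hv : v ∈ Wt D.ρ A χ) : D.t v ∈ Wt D.ρ A (D.tC hτA χ) := fun a => by
  have := congrArg D.t (hv ⟨_, hτA a a.2⟩)
  rw [D.tρ, D.τ2, map_smul] at this
  exact this

omit [Finite N] in
theorem sC3 (χ : A →* Kˣ) : D.sC hσA (D.sC hσA (D.sC hσA χ)) = χ :=
  MonoidHom.ext fun a => congrArg χ (Subtype.ext (by
    show D.σ (D.σ (D.σ (D.σ (D.σ (D.σ (a : N)))))) = a
    rw [D.σ3, D.σ3]))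

omit [Finite N] in
theorem tC2 (χ : A →* Kˣ) : D.tC hτA (D.tC hτA χ) = χ :=
  MonoidHom.ext fun a => congrArg χ (Subtype.ext (D.τ2 a))

omit [Finite N] in
theorem tsC (χ : A →* Kˣ) :
    D.tC hτA (D.sC hσA χ) = D.sC hσA (D.sC hσA (D.tC hτA χ)) :=
  MonoidHom.ext fun a => congrArg χ (Subtype.ext (by
    show D.σ (D.σ (D.τ (a : N))) = D.τ (D.σ (D.σ (D.σ (D.σ (a : N)))))
    rw [D.σ3, D.τσ]))

omit [Finite N] in
theorem sC_shift (n : N) (χ : A →* Kˣ) :
    D.sC hσA (shift A n χ) = shift A (D.σ n) (D.sC hσA χ) :=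
  MonoidHom.ext fun a => congrArg χ (Subtype.ext (by
    show n⁻¹ * D.σ (D.σ (a : N)) * n = D.σ (D.σ ((D.σ n)⁻¹ * a * D.σ n))
    simp only [map_mul, map_inv, D.σ3]))

omit [Finite N] in
theorem tC_shift (n : N) (χ : A →* Kˣ) :
    D.tC hτA (shift A n χ) = shift A (D.τ n) (D.tC hτA χ) :=
  MonoidHom.ext fun a => congrArg χ (Subtype.ext (by
    show n⁻¹ * D.τ (a : N) * n = D.τ ((D.τ n)⁻¹ * a * D.τ n)
    simp only [map_mul, map_inv, D.τ2]))

omit [Finite N] in
theorem rot_tC (χ : A →* Kˣ) :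
    D.rot.tC (fun a ha => hσA _ (hτA a ha)) χ = D.sC hσA (D.tC hτA χ) :=
  MonoidHom.ext fun a => congrArg χ (Subtype.ext (by
    show D.σ (D.τ (a : N)) = D.τ (D.σ (D.σ (a : N)))
    rw [D.τσ, D.τσ, D.σ3]))

variable [IsSepClosed K] [IsMulCommutative A] [Fintype A] (hn : (Fintype.card A : K) ≠ 0)
include hn hσA hτA

omit hσA hτA in
theorem units_pow_eq_one {χ : A →* Kˣ} {a : A} {k : ℕ} (hk : (Nat.card N).Coprime k) (h : χ a ^ k = 1) :
    χ a = 1 := by
  rw [← orderOf_eq_one_iff]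
  refine Nat.eq_one_of_dvd_coprimes hk ((orderOf_map_dvd χ a).trans ?_) (orderOf_dvd_of_pow_eq_one h)
  exact (Subgroup.orderOf_coe a) ▸ orderOf_dvd_natCard (a : N)

set_option maxHeartbeats 800000 in
/-- Some involution fixes each moved weight of a nonzero space. -/
theorem exists_involution_fixes {ν : A →* Kˣ} (hσν : D.sC hσA ν ≠ ν) {v : V}
    (hv : v ∈ Wt D.ρ A ν) (hv0 : v ≠ 0) :
    D.tC hτA ν = ν ∨ D.sC hσA (D.tC hτA ν) = ν ∨ D.sC hσA (D.sC hσA (D.tC hτA ν)) = ν := by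
  by_contra hcon
  push Not at hcon
  obtain ⟨c1, c2, c3⟩ := hcon
  obtain ⟨S, hS⟩ : ∃ S, S = D.sC hσA := ⟨_, rfl⟩
  obtain ⟨T, hT⟩ : ∃ T, T = D.tC hτA := ⟨_, rfl⟩
  rw [← hS] at hσν c2 c3
  rw [← hT] at c1 c2 c3
  have hS3 : ∀ χ, S (S (S χ)) = χ := fun χ => by rw [hS]; exact D.sC3 hσA χ
  have hTS : ∀ χ, T (S χ) = S (S (T χ)) := fun χ => by rw [hS, hT]; exact D.tsC hσA hτA χ
  have hu : v + D.t v ∈ WtSum D.ρ A {ν, T ν} :=
    add_mem (le_WtSum D.ρ A (show ν ∈ ({ν, T ν} : Set (A →* Kˣ)) from Set.mem_insert ν _) hv)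
      (le_WtSum D.ρ A (show T ν ∈ ({ν, T ν} : Set (A →* Kˣ)) from
        Set.mem_insert_of_mem ν (Set.mem_singleton (T ν)))
        (show D.t v ∈ Wt D.ρ A (T ν) by rw [hT]; exact D.t_mem_Wt hτA hv))
  have h0 := D.sum_s_eq_zero (D.t_add v)
  have e2 : S (S ν) ≠ ν := fun e => hσν (by conv_lhs => rw [← e]
                                            rw [hS3])
  have e4 : S (T ν) ≠ T ν := fun e => by
    have h := congrArg T e
    rw [hTS, hT, D.tC2] at h
    exact hσν (by conv_lhs => rw [← h]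
                  rw [hS3])
  have e5 : S (S (T ν)) ≠ T ν := fun e => e4 (by conv_lhs => rw [← e]
                                                 rw [hS3])
  have f1 : T ν ≠ S ν := fun e => c3 (by rw [e, hS3])
  have f2 : T ν ≠ S (S ν) := fun e => c2 (by rw [e, hS3])
  have hsP : D.s (v + D.t v) ∈ WtSum D.ρ A {S ν, S (T ν)} :=
    map_wtSum D.ρ A D.s S (fun χ w hw => by rw [hS]; exact D.s_mem_Wt hσA hw) (by rintro χ (rfl | rfl) <;> simp) hu
  have hssP : D.s (D.s (v + D.t v)) ∈ WtSum D.ρ A {S (S ν), S (S (T ν))} :=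
    map_wtSum D.ρ A D.s S (fun χ w hw => by rw [hS]; exact D.s_mem_Wt hσA hw) (by rintro χ (rfl | rfl) <;> simp) hsP
  have h1 := eq_zero_of_disjoint D.ρ A hn (P := {ν, T ν}) (Q := {S ν, S (T ν)})
    (R := {S (S ν), S (S (T ν))})
    (by rintro χ (rfl | rfl) (h | h); exacts [hσν h.symm, c2 h.symm, f1 h, e4 h.symm])
    (by rintro χ (rfl | rfl) (h | h); exacts [e2 h.symm, c3 h.symm, f2 h, e5 h.symm]) hu hsP hssP h0
  have h2 : D.t v ∈ Wt D.ρ A ν := by
    rw [eq_neg_of_add_eq_zero_right h1]; exact neg_mem hv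
  refine hv0 (eq_zero_of_disjoint D.ρ A hn (P := {ν}) (Q := {T ν}) (R := ∅) ?_ (fun _ _ h => h)
    (le_WtSum D.ρ A (Set.mem_singleton ν) hv) (le_WtSum D.ρ A (Set.mem_singleton (T ν))
      (show D.t v ∈ Wt D.ρ A (T ν) by rw [hT]; exact D.t_mem_Wt hτA hv)) (zero_mem _) (by rw [h1, add_zero]))
  rintro χ rfl h
  exact c1 (Set.mem_singleton_iff.1 h).symm

/-- A set of weights invariant under `N` and `τ` and disjoint from its translates by `σ`. -/
theorem disjoint_case (O : Set (A →* Kˣ)) (hN : ∀ n, ∀ χ ∈ O, shift A n χ ∈ O)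
    (hτ : ∀ χ ∈ O, D.tC hτA χ ∈ O) (hσ : ∀ χ ∈ O, D.sC hσA χ ∉ O) {Y : Subgroup N}
    (hYσ : ∀ y ∈ Y, D.σ y ∈ Y) (hlin : ∀ n : N, ∀ y ∈ Y, ∀ z ∈ Y, ⁅n, y * z⁆ = ⁅n, y⁆ * ⁅n, z⁆)
    (n : N) {z : N} (hz : z ∈ Y) {w : V} (hw : w ∈ WtSum D.ρ A O) : D.ρ ⁅n, z⁆ w = w := by
  have hσσ : ∀ χ ∈ O, D.sC hσA (D.sC hσA χ) ∉ O := fun χ hχ h =>
    hσ _ h (by rw [D.sC3]; exact hχ)
  have hρW : ∀ (x : N) {w}, w ∈ WtSum D.ρ A O → D.ρ x w ∈ WtSum D.ρ A O := fun x {w} hw =>
    map_wtSum D.ρ A (D.ρ x) (shift A x) (fun χ v hv => D.ρ_mem_Wt hv x) (fun χ hχ => hN x χ hχ) hw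
  have htW : ∀ {w}, w ∈ WtSum D.ρ A O → D.t w = -w := fun {w} hw => by
    have hu : w + D.t w ∈ WtSum D.ρ A O :=
      add_mem hw (map_wtSum D.ρ A D.t (D.tC hτA) (fun χ v hv => D.t_mem_Wt hτA hv) hτ hw)
    have hs : ∀ {P : Set (A →* Kˣ)} {u}, u ∈ WtSum D.ρ A P → D.s u ∈ WtSum D.ρ A (D.sC hσA '' P) :=
      fun {P u} hu => map_wtSum D.ρ A D.s (D.sC hσA) (fun χ v hv => D.s_mem_Wt hσA hv)
        (fun χ hχ => Set.mem_image_of_mem _ hχ) hu
    refine eq_neg_of_add_eq_zero_right (eq_zero_of_disjoint D.ρ A hn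
      (Q := D.sC hσA '' O) (R := D.sC hσA '' (D.sC hσA '' O)) ?_ ?_ hu (hs hu) (hs (hs hu))
      (D.sum_s_eq_zero (D.t_add w)))
    · rintro χ hχ ⟨ψ, hψ, rfl⟩; exact hσ ψ hψ hχ
    · rintro χ hχ ⟨_, ⟨ψ, hψ, rfl⟩, rfl⟩; exact hσσ ψ hψ hχ
  have hτρ : ∀ (x : N) {w}, w ∈ WtSum D.ρ A O → D.ρ (D.τ x) w = D.ρ x w := fun x {w} hw => by
    have h := D.tρ x w
    rw [htW (hρW x hw), htW hw, map_neg, neg_inj] at h
    exact h.symm
  let Kr : Subgroup N :=
    { carrier := {x | ∀ w ∈ WtSum D.ρ A O, D.ρ x w = w}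
      one_mem' := fun w _ => by simp
      mul_mem' := fun {x y} hx hy w hw => by rw [map_mul, Module.End.mul_apply, hy w hw, hx w hw]
      inv_mem' := fun {x} hx w hw => by
        conv_lhs => rw [← hx w hw]
        rw [D.ρ_inv_apply] }
  haveI : Kr.Normal := ⟨fun x hx g w hw => by
    rw [map_mul, map_mul, Module.End.mul_apply, Module.End.mul_apply, hx _ (hρW g⁻¹ hw), D.ρ_apply_inv]⟩
  have hfix : ∀ c, D.σ c = c → c ∈ Kr := fun c hc => by
    have h2 : c ^ 2 ∈ Kr := fun w hw => by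
      have h := hτρ c hw
      rw [D.inverts hc] at h
      rw [pow_two, map_mul, Module.End.mul_apply, ← h, D.ρ_apply_inv]
    obtain ⟨m, hm⟩ := (Nat.Coprime.pow_left_bijective D.odd).2 c
    have hm' : m ^ 2 = c := hm
    have hcm : D.σ m = m := (Nat.Coprime.pow_left_bijective D.odd).1 (by
      show D.σ m ^ 2 = m ^ 2
      rw [← map_pow, hm', hc])
    intro w hw
    rw [← hm', pow_two, map_mul, Module.End.mul_apply]
    have h := hτρ m hw
    rw [D.inverts hcm] at h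
    rw [← h, D.ρ_apply_inv]
  exact D.commutator_mem hfix (fun x w hw => by
    rw [map_mul, Module.End.mul_apply, hτρ x hw, D.ρ_inv_apply]) hYσ hlin n hz w hw

omit [IsSepClosed K] in
theorem orbit_prod_fixed (a : A) :
    D.σ ((a : N) * D.σ a * D.σ (D.σ a)) = (a : N) * D.σ a * D.σ (D.σ a) := by
  rw [map_mul, map_mul, D.σ3]
  have h := congrArg Subtype.val (mul_comm' (M := A)
    (⟨D.σ a, hσA a a.2⟩ * ⟨D.σ (D.σ a), hσA _ (hσA a a.2)⟩) a)
  simp only [Subgroup.coe_mul] at h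
  rw [h, mul_assoc]

/-- A weight fixed by `Sym 3` is trivial. -/
theorem fixed_weight_trivial {μ : A →* Kˣ} (hσμ : D.sC hσA μ = μ) (hτμ : D.tC hτA μ = μ) : μ = 1 := by
  refine MonoidHom.ext fun a => ?_
  rw [MonoidHom.one_apply]
  have hS : ∀ x : A, μ ⟨D.σ x, hσA x x.2⟩ = μ x := fun x => by
    have h1 := DFunLike.congr_fun hσμ ⟨D.σ x, hσA x x.2⟩
    rw [← h1]
    exact congrArg μ (Subtype.ext (D.σ3 x))
  have hT : ∀ x : A, μ ⟨D.τ x, hτA x x.2⟩ = μ x := fun x => DFunLike.congr_fun hτμ x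
  set b : A := a * ⟨D.σ a, hσA a a.2⟩ * ⟨D.σ (D.σ a), hσA _ (hσA a a.2)⟩ with hb
  have hμb : μ b = μ a ^ 3 := by
    rw [hb, map_mul, map_mul, hS a, hS ⟨D.σ a, hσA a a.2⟩, hS a, pow_succ, pow_two]
  have hbfix : D.σ (b : N) = b := D.orbit_prod_fixed hσA hτA hn a
  have h := hT b
  rw [show (⟨D.τ b, hτA b b.2⟩ : A) = b⁻¹ from Subtype.ext (D.inverts hbfix), map_inv, hμb,
    inv_eq_iff_mul_eq_one, ← pow_add] at h
  exact units_pow_eq_one hn (D.cop) h

/-- Invariant abelian normal subgroups of order invertible in the field act centrally. -/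
theorem abelian_normal_central {χ : A →* Kˣ} {v : V} (hv : v ∈ Wt D.ρ A χ) (hv0 : v ≠ 0) (n : N) :
    shift A n χ = χ := by
  classical
  have hlinA : ∀ m : N, ∀ y ∈ A, ∀ z ∈ A, ⁅m, y * z⁆ = ⁅m, y⁆ * ⁅m, z⁆ := fun m y hy z hz => by
    have hA' : ⁅m, z⁆ ∈ A := mul_mem ((inferInstance : A.Normal).conj_mem z hz m) (inv_mem hz)
    have h := congrArg Subtype.val (mul_comm' (M := A) ⟨y, hy⟩ ⟨_, hA'⟩)
    simp only [Subgroup.coe_mul] at h
    rw [commutatorElement_mul_right_eq_mul_conj, mul_assoc _ y, h, ← mul_assoc, mul_inv_cancel_right]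
  have hne : ∀ m, D.ρ m v ≠ 0 := fun m e => hv0 (by rw [← D.ρ_inv_apply m v, e, map_zero])
  by_cases hall : ∀ m, D.sC hσA (shift A m χ) = shift A m χ
  · -- every weight of the orbit is fixed by `σ`
    let St : Subgroup N :=
      { carrier := {x | shift A x χ = χ}
        one_mem' := shift_one χ
        mul_mem' := fun {x y} hx hy => by
          simp only [Set.mem_setOf_eq] at hx hy ⊢
          rw [shift_mul, hy, hx]
        inv_mem' := fun {x} hx => by
          simp only [Set.mem_setOf_eq] at hx ⊢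
          conv_lhs => rw [← hx]
          rw [← shift_mul, inv_mul_cancel, shift_one] }
    have hχ : D.sC hσA χ = χ := by simpa [shift_one] using hall 1
    refine D.induction_mem (P := St) (fun c hc => ?_) (fun x => ?_) n
    · show shift A c χ = χ
      refine MonoidHom.ext fun a => ?_
      have h2 : ∀ ψ : A →* Kˣ, D.sC hσA ψ = ψ →
          ψ (a * ⟨D.σ a, hσA a a.2⟩ * ⟨D.σ (D.σ a), hσA _ (hσA a a.2)⟩) = ψ a ^ 3 := by
        intro ψ hψ
        have hS : ∀ x : A, ψ ⟨D.σ x, hσA x x.2⟩ = ψ x := fun x => by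
          have h1 := DFunLike.congr_fun hψ ⟨D.σ x, hσA x x.2⟩
          rw [← h1]
          exact congrArg ψ (Subtype.ext (D.σ3 x))
        rw [map_mul, map_mul, hS a, hS ⟨D.σ a, hσA a a.2⟩, hS a, pow_succ, pow_two]
      set b : A := a * ⟨D.σ a, hσA a a.2⟩ * ⟨D.σ (D.σ a), hσA _ (hσA a a.2)⟩ with hb
      have hbfix : D.σ (b : N) = b := D.orbit_prod_fixed hσA hτA hn a
      have e : shift A c χ b = χ b := congrArg χ (Subtype.ext (by
        show c⁻¹ * (b : N) * c = b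
        rw [mul_assoc, D.fixed_comm hbfix hc, inv_mul_cancel_left]))
      rw [h2 _ (hall c), h2 _ hχ] at e
      refine mul_inv_eq_one.1 ?_
      have h6 : ((shift A c χ * χ⁻¹) a) ^ 3 = 1 := by
        rw [MonoidHom.mul_apply, MonoidHom.inv_apply, mul_pow, inv_pow, e, mul_inv_cancel]
      exact units_pow_eq_one hn D.cop3 h6
    · show shift A (x⁻¹ * D.σ x) χ = χ
      have h := hall x
      rw [D.sC_shift, hχ] at h
      rw [shift_mul, h, ← shift_mul, inv_mul_cancel, shift_one]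
  · push Not at hall
    obtain ⟨m, hm⟩ := hall
    obtain ⟨ν, hν⟩ : ∃ ν, ν = shift A m χ := ⟨_, rfl⟩
    rw [← hν] at hm
    have hνw : D.ρ m v ∈ Wt D.ρ A ν := hν ▸ D.ρ_mem_Wt hv m
    -- choose the involution fixing `ν`
    obtain ⟨D', hρ', hσA', hτA', hS, hτν⟩ : ∃ (D' : Data K V N) (_ : D'.ρ = D.ρ) (hσA' : ∀ a ∈ A, D'.σ a ∈ A)
        (hτA' : ∀ a ∈ A, D'.τ a ∈ A), (∀ ψ, D'.sC hσA' ψ = D.sC hσA ψ) ∧ D'.tC hτA' ν = ν := by
      rcases D.exists_involution_fixes hσA hτA hn hm hνw (hne m) with h | h | h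
      · exact ⟨D, rfl, hσA, hτA, fun _ => rfl, h⟩
      · exact ⟨D.rot, rfl, hσA, fun a ha => hσA _ (hτA a ha), fun _ => rfl, by rw [D.rot_tC hσA hτA]; exact h⟩
      · exact ⟨D.rot.rot, rfl, hσA, fun a ha => hσA _ (hσA _ (hτA a ha)), fun _ => rfl, by
          have := D.rot.rot_tC (A := A) hσA (fun a ha => hσA _ (hτA a ha)) ν
          rw [D.rot_tC hσA hτA] at this
          exact this.trans h⟩
    have hσν : D'.sC hσA' ν ≠ ν := by rw [hS]; exact hm
    let O : Set (A →* Kˣ) := {ψ | ∃ k, shift A k ν = ψ}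
    have hON : ∀ k, ∀ ψ ∈ O, shift A k ψ ∈ O := by
      rintro k _ ⟨l, rfl⟩; exact ⟨k * l, shift_mul k l ν⟩
    have hOτ : ∀ ψ ∈ O, D'.tC hτA' ψ ∈ O := by
      rintro _ ⟨l, rfl⟩; exact ⟨D'.τ l, by rw [D'.tC_shift, hτν]⟩
    by_cases hσO : D'.sC hσA' ν ∈ O
    · -- the orbit is invariant: a weight fixed by `Sym 3` would be trivial
      exfalso
      obtain ⟨n₀, hn₀⟩ := hσO
      letI : MulAction N (A →* Kˣ) :=
        { smul := fun k ψ => shift A k ψ, one_smul := shift_one, mul_smul := shift_mul }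
      have hOorb : O = MulAction.orbit N ν := rfl
      haveI := finite_chars (K := K) A hn
      haveI := Fintype.ofFinite (A →* Kˣ)
      let σp : Equiv.Perm O :=
        { toFun := fun ψ => ⟨D'.sC hσA' ψ, by
            obtain ⟨l, hl⟩ := ψ.2
            exact ⟨D'.σ l * n₀, by rw [shift_mul, hn₀, ← hl, D'.sC_shift]⟩⟩
          invFun := fun ψ => ⟨D'.sC hσA' (D'.sC hσA' ψ), by
            obtain ⟨l, hl⟩ := ψ.2
            refine ⟨D'.σ (D'.σ l * n₀) * n₀, ?_⟩
            rw [← hl, D'.sC_shift, ← hn₀, ← shift_mul, D'.sC_shift, ← hn₀, ← shift_mul]⟩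
          left_inv := fun ψ => Subtype.ext (D'.sC3 hσA' ψ)
          right_inv := fun ψ => Subtype.ext (D'.sC3 hσA' ψ) }
      have hd : ¬ 3 ∣ Fintype.card O := by
        rw [← Nat.card_eq_fintype_card, hOorb, Nat.card_coe_set_eq, ← MulAction.index_stabilizer]
        intro h
        exact absurd (Nat.eq_one_of_dvd_coprimes D.cop3 (h.trans (Subgroup.index_dvd_card _)) dvd_rfl)
          (by norm_num)
      haveI : Fact (Nat.Prime 3) := ⟨Nat.prime_three⟩
      obtain ⟨⟨μ, hμO⟩, hμ⟩ := Equiv.Perm.exists_fixed_point_of_prime hd (σ := σp) (p := 3) (n := 1) (by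
        refine Equiv.ext fun ψ => ?_
        rw [pow_one, Equiv.Perm.coe_pow, Equiv.Perm.one_apply]
        exact Subtype.ext (D'.sC3 hσA' ψ))
      have hσμ : D'.sC hσA' μ = μ := congrArg Subtype.val hμ
      let H := MulAction.stabilizer N μ
      have hH : ∀ x ∈ H, D'.σ x ∈ H := fun x hx => by
        show shift A (D'.σ x) μ = μ
        conv_lhs => rw [← hσμ]
        rw [← D'.sC_shift, show shift A x μ = μ from hx, hσμ]
      obtain ⟨k, hk⟩ : ∃ k, shift A k μ = D'.tC hτA' μ := by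
        obtain ⟨l, hl⟩ := hμO
        obtain ⟨l', hl'⟩ := hOτ μ ⟨l, hl⟩
        exact ⟨l' * l⁻¹, by rw [← hl', ← hl, ← shift_mul, inv_mul_cancel_right]⟩
      have hσk : D'.sC hσA' (shift A k μ) = shift A k μ := by
        have h3 := congrArg (D'.tC hτA') hσμ
        rw [D'.tsC hσA' hτA'] at h3
        rw [hk]
        conv_lhs => rw [← h3]
        rw [D'.sC3]
      obtain ⟨h', hh', hcfix⟩ := D'.exists_fixed_coset hH (n := k) (show shift A (k⁻¹ * D'.σ k) μ = μ by
        rw [shift_mul, show shift A (D'.σ k) μ = shift A k μ by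
          conv_lhs => rw [← hσμ]
          rw [← D'.sC_shift, hσk], ← shift_mul, inv_mul_cancel, shift_one])
      have hk' : shift A (k * h') μ = D'.tC hτA' μ := by
        rw [shift_mul, show shift A h' μ = μ from hh', hk]
      obtain ⟨c', hc'⟩ := (Nat.Coprime.pow_left_bijective D'.odd).2 (k * h')
      have hc'2 : c' ^ 2 = k * h' := hc'
      have hc'σ : D'.σ c' = c' := (Nat.Coprime.pow_left_bijective D'.odd).1 (by
        show D'.σ c' ^ 2 = c' ^ 2
        rw [← map_pow, hc'2, hcfix])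
      set μ' := shift A c' μ with hμ'
      have h1 : D'.sC hσA' μ' = μ' := by rw [hμ', D'.sC_shift, hc'σ, hσμ]
      have h2 : D'.tC hτA' μ' = μ' := by
        rw [hμ', D'.tC_shift, D'.inverts hc'σ, ← hk', ← shift_mul, ← hc'2, pow_two, inv_mul_cancel_left]
      have h3 := D'.fixed_weight_trivial hσA' hτA' hn h1 h2
      have h4 : ν = 1 := by
        obtain ⟨l, hl⟩ := hμO
        rw [hμ', ← hl, ← shift_mul] at h3
        have := congrArg (shift A (c' * l)⁻¹) h3
        rw [← shift_mul, inv_mul_cancel, shift_one] at this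
        exact this.trans (MonoidHom.ext fun _ => rfl)
      exact hσν (by rw [h4]; exact MonoidHom.ext fun _ => rfl)
    · have hσO' : ∀ ψ ∈ O, D'.sC hσA' ψ ∉ O := by
        rintro _ ⟨l, rfl⟩ ⟨l', hl'⟩
        refine hσO ⟨(D'.σ l)⁻¹ * l', ?_⟩
        rw [shift_mul, hl', D'.sC_shift, ← shift_mul, inv_mul_cancel, shift_one]
      have hfix : ∀ k, shift A k ν = ν := fun k => by
        refine MonoidHom.ext fun a => Units.ext ?_
        have hν' : D.ρ m v ∈ Wt D'.ρ A ν := by rw [hρ']; exact hνw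
        obtain ⟨u, hu⟩ : ∃ u, u = D.ρ m v := ⟨_, rfl⟩
        rw [← hu] at hν'
        have hin : D'.ρ k u ∈ Wt D'.ρ A (shift A k ν) := D'.ρ_mem_Wt hν' k
        have hO : D'.ρ k u ∈ WtSum D'.ρ A O :=
          le_WtSum D'.ρ A (show shift A k ν ∈ O from ⟨k, rfl⟩) hin
        have h1 := D'.disjoint_case hσA' hτA' hn O hON hOτ hσO' hσA' hlinA k a.2 hO
        have h2 : D'.ρ k u ≠ 0 := fun e => hne m (by rw [← hu, ← D'.ρ_inv_apply k u, e, map_zero])
        have h3 : D'.ρ ⁅k, (a : N)⁆ (D'.ρ k u) =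
            (((shift A k ν a)⁻¹ * ν a : Kˣ) : K) • D'.ρ k u := by
          have e : ⁅k, (a : N)⁆ * k = k * ((a : N) * (k⁻¹ * (a : N)⁻¹ * k)) := by
            rw [commutatorElement_def]; group
          rw [← Module.End.mul_apply, ← map_mul, e, map_mul, map_mul, Module.End.mul_apply,
            Module.End.mul_apply, hν' ⟨k⁻¹ * (a : N)⁻¹ * k, by
              simpa using (inferInstance : A.Normal).conj_mem _ (inv_mem a.2) k⁻¹⟩,
            map_smul, hν' a, smul_smul, map_smul]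
          congr 1
          rw [← Units.val_mul]
          congr 2
          rw [← map_inv (shift A k ν)]
          rfl
        rw [h3] at h1
        have h4 : (((shift A k ν a)⁻¹ * ν a : Kˣ) : K) = 1 := by
          have h5 : ((((shift A k ν a)⁻¹ * ν a : Kˣ) : K) - 1) • D'.ρ k u = 0 := by
            rw [sub_smul, one_smul, h1, sub_self]
          exact sub_eq_zero.1 ((smul_eq_zero.1 h5).resolve_right h2)
        rw [Units.val_eq_one, inv_mul_eq_one] at h4
        exact congrArg Units.val h4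
      have h5 : shift A n ν = ν := hfix n
      have hχν : χ = ν := by
        have := hfix m⁻¹
        rw [hν, ← shift_mul, inv_mul_cancel, shift_one] at this
        exact this.trans hν.symm
      rw [hχν]
      exact h5

end Data

end Cfsg.Agent.SolvStruct.S3Fpf
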