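import Mathlib

/-!
# Fixed-point-free actions of the symmetric group of degree three on a module and a group
-/

set_option autoImplicit false

namespace Cfsg.Agent.SolvStruct.S3Fpf

open scoped commutatorElement

variable {K : Type*} [Field K] {V : Type*} [AddCommGroup V] [Module K V] {N : Type*} [Group N]

/-- `Sym 3 = ⟨σ, τ⟩` acts on `N` and compatibly on `V`, fixing nothing. -/
structure Data (K V N : Type*) [Field K] [AddCommGroup V] [Module K V] [Group N] where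
  ρ : N →* Module.End K V
  s : Module.End K V
  t : Module.End K V
  σ : N ≃* N
  τ : N ≃* N
  s3 : ∀ v, s (s (s v)) = v
  t2 : ∀ v, t (t v) = v
  ts : ∀ v, t (s v) = s (s (t v))
  σ3 : ∀ x, σ (σ (σ x)) = x
  τ2 : ∀ x, τ (τ x) = x
  τσ : ∀ x, τ (σ x) = σ (σ (τ x))
  sρ : ∀ x v, s (ρ x v) = ρ (σ x) (s v)
  tρ : ∀ x v, t (ρ x v) = ρ (τ x) (t v)
  fixV : ∀ v, s v = v → t v = v → v = 0
  fixN : ∀ x, σ x = x → τ x = x → x = 1
  cop : (Nat.card N).Coprime 6
  two : (2 : K) ≠ 0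
  three : (3 : K) ≠ 0

namespace Data

variable (D : Data K V N)
include D

theorem odd : (Nat.card N).Coprime 2 := D.cop.coprime_dvd_right (by norm_num)

theorem cop3 : (Nat.card N).Coprime 3 := D.cop.coprime_dvd_right (by norm_num)

/-- Replace `τ` by `σ τ`. -/
def rot : Data K V N where
  ρ := D.ρ
  s := D.s
  t := D.s * D.t
  σ := D.σ
  τ := D.τ.trans D.σ
  s3 := D.s3
  t2 v := by simp only [Module.End.mul_apply]; rw [D.ts, D.t2, D.s3]
  ts v := by simp only [Module.End.mul_apply]; rw [D.ts]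
  σ3 := D.σ3
  τ2 x := by simp only [MulEquiv.trans_apply]; rw [D.τσ, D.τ2, D.σ3]
  τσ x := by simp only [MulEquiv.trans_apply]; rw [D.τσ]
  sρ := D.sρ
  tρ x v := by simp only [Module.End.mul_apply, MulEquiv.trans_apply]; rw [D.tρ, D.sρ]
  fixV v h1 h2 := by
    refine D.fixV v h1 ?_
    simp only [Module.End.mul_apply] at h2
    calc D.t v = D.s (D.s (D.s (D.t v))) := (D.s3 _).symm
      _ = v := by rw [h2, h1, h1]
  fixN x h1 h2 := by
    refine D.fixN x h1 ?_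
    simp only [MulEquiv.trans_apply] at h2
    calc D.τ x = D.σ (D.σ (D.σ (D.τ x))) := (D.σ3 _).symm
      _ = x := by rw [h2, h1, h1]
  cop := D.cop
  two := D.two
  three := D.three

/-- A vector fixed by `t` gives the fixed vector `v + s v + s² v`. -/
theorem sum_s_eq_zero {v : V} (hv : D.t v = v) : v + D.s v + D.s (D.s v) = 0 := by
  refine D.fixV _ ?_ ?_
  · rw [map_add, map_add, D.s3]; abel
  · rw [map_add, map_add, hv, D.ts, hv, D.ts (D.s v), D.ts, hv, D.s3]; abel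

theorem t_add (v : V) : D.t (v + D.t v) = v + D.t v := by rw [map_add, D.t2]; abel

theorem add_self_eq_zero {v : V} (h : v + v = 0) : v = 0 := by
  rw [← two_smul K v] at h
  exact (smul_eq_zero.1 h).resolve_left D.two

theorem ρ_inv_apply (x : N) (v : V) : D.ρ x⁻¹ (D.ρ x v) = v := by
  rw [← Module.End.mul_apply, ← map_mul, inv_mul_cancel, map_one, Module.End.one_apply]

theorem ρ_apply_inv (x : N) (v : V) : D.ρ x (D.ρ x⁻¹ v) = v := by
  rw [← Module.End.mul_apply, ← map_mul, mul_inv_cancel, map_one, Module.End.one_apply]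

theorem σ_iter (x : N) : (⇑D.σ)^[3] x = x := D.σ3 x

variable [Finite N]

theorem sq_eq_one {x : N} (h : x ^ 2 = 1) : x = 1 := by
  rw [← orderOf_eq_one_iff]
  exact Nat.eq_one_of_dvd_coprimes D.odd (orderOf_dvd_natCard x) (orderOf_dvd_of_pow_eq_one h)

theorem cube_eq_one {x : N} (h : x ^ 3 = 1) : x = 1 := by
  rw [← orderOf_eq_one_iff]
  exact Nat.eq_one_of_dvd_coprimes D.cop3 (orderOf_dvd_natCard x) (orderOf_dvd_of_pow_eq_one h)

/-- `τ` inverts the fixed points of `σ`. -/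
theorem inverts {c : N} (hc : D.σ c = c) : D.τ c = c⁻¹ := by
  have hcl : ∀ y, D.σ y = y → D.σ (D.τ y) = D.τ y := fun y hy => by
    have h := D.τσ y
    rw [hy] at h
    calc D.σ (D.τ y) = D.σ (D.σ (D.σ (D.τ y))) := by conv_lhs => rw [h]
      _ = D.τ y := D.σ3 _
  let f : {y : N // D.σ y = y} → {y : N // D.σ y = y} :=
    fun y => ⟨(y : N)⁻¹ * D.τ y, by rw [map_mul, map_inv, y.2, hcl y y.2]⟩
  have hf : Function.Surjective f := Finite.injective_iff_surjective.1 fun a b e => by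
    have e' : (a : N)⁻¹ * D.τ a = (b : N)⁻¹ * D.τ b := congrArg Subtype.val e
    have h1 : D.τ ((b : N) * (a : N)⁻¹) = (b : N) * (a : N)⁻¹ := by
      calc D.τ ((b : N) * (a : N)⁻¹) = D.τ b * (D.τ a)⁻¹ := by rw [map_mul, map_inv]
        _ = (b : N) * ((b : N)⁻¹ * D.τ b) * (D.τ a)⁻¹ := by group
        _ = (b : N) * ((a : N)⁻¹ * D.τ a) * (D.τ a)⁻¹ := by rw [e']
        _ = (b : N) * (a : N)⁻¹ := by group
    exact Subtype.ext (mul_inv_eq_one.1 (D.fixN _ (by rw [map_mul, map_inv, a.2, b.2]) h1)).symm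
  obtain ⟨⟨y, hy⟩, hyc⟩ := hf ⟨c, hc⟩
  have e : c = y⁻¹ * D.τ y := (congrArg Subtype.val hyc).symm
  rw [e, map_mul, map_inv, D.τ2, mul_inv_rev, inv_inv]

theorem fixed_comm {c d : N} (hc : D.σ c = c) (hd : D.σ d = d) : c * d = d * c := by
  have h := D.inverts (show D.σ (c * d) = c * d by rw [map_mul, hc, hd])
  rw [map_mul, D.inverts hc, D.inverts hd, ← mul_inv_rev, inv_inj] at h
  exact h.symm

/-- A coset of a `σ`-invariant subgroup which is fixed by `σ` contains a fixed point. -/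
theorem exists_fixed_coset {H : Subgroup N} (hH : ∀ x ∈ H, D.σ x ∈ H) {n : N} (hn : n⁻¹ * D.σ n ∈ H) :
    ∃ m ∈ H, D.σ (n * m) = n * m := by
  classical
  let f : H → H := fun m => ⟨n⁻¹ * D.σ n * D.σ m, mul_mem hn (hH m m.2)⟩
  have hf : ∀ m : H, f (f (f m)) = m := fun m => Subtype.ext (by
    show n⁻¹ * D.σ n * D.σ (n⁻¹ * D.σ n * D.σ (n⁻¹ * D.σ n * D.σ m)) = m
    simp only [map_mul, map_inv, D.σ3]
    group)
  let σp : Equiv.Perm H :=
    { toFun := f, invFun := fun m => f (f m), left_inv := hf, right_inv := hf }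
  haveI := Fintype.ofFinite H
  haveI : Fact (Nat.Prime 3) := ⟨Nat.prime_three⟩
  have hd : ¬ 3 ∣ Fintype.card H := by
    rw [← Nat.card_eq_fintype_card]
    intro h
    exact absurd (Nat.eq_one_of_dvd_coprimes D.cop3 (h.trans (Subgroup.card_subgroup_dvd_card H)) dvd_rfl)
      (by norm_num)
  obtain ⟨m, hm⟩ := Equiv.Perm.exists_fixed_point_of_prime hd (σ := σp) (p := 3) (n := 1) (by
    ext m
    rw [pow_one, Equiv.Perm.coe_pow, Equiv.Perm.one_apply]
    exact congrArg Subtype.val (hf m))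
  refine ⟨m, m.2, ?_⟩
  have h1 : n⁻¹ * D.σ n * D.σ m = (m : N) := congrArg Subtype.val hm
  conv_rhs => rw [← h1]
  rw [map_mul]; group

/-- A `τ`-invariant coset of a `τ`-invariant subgroup contains a fixed point. -/
theorem exists_fixed_coset_τ {H : Subgroup N} (hH : ∀ x ∈ H, D.τ x ∈ H) {n : N} (hn : n⁻¹ * D.τ n ∈ H) :
    ∃ m ∈ H, D.τ (n * m) = n * m := by
  classical
  let f : H → H := fun m => ⟨n⁻¹ * D.τ n * D.τ m, mul_mem hn (hH m m.2)⟩
  have hf : ∀ m : H, f (f m) = m := fun m => Subtype.ext (by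
    show n⁻¹ * D.τ n * D.τ (n⁻¹ * D.τ n * D.τ m) = m
    simp only [map_mul, map_inv, D.τ2]
    group)
  let σp : Equiv.Perm H := { toFun := f, invFun := f, left_inv := hf, right_inv := hf }
  haveI := Fintype.ofFinite H
  haveI : Fact (Nat.Prime 2) := ⟨Nat.prime_two⟩
  have hd : ¬ 2 ∣ Fintype.card H := by
    rw [← Nat.card_eq_fintype_card]
    intro h
    exact absurd (Nat.eq_one_of_dvd_coprimes D.odd (h.trans (Subgroup.card_subgroup_dvd_card H)) dvd_rfl)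
      (by norm_num)
  obtain ⟨m, hm⟩ := Equiv.Perm.exists_fixed_point_of_prime hd (σ := σp) (p := 2) (n := 1) (by
    ext m
    rw [pow_one, Equiv.Perm.coe_pow, Equiv.Perm.one_apply]
    exact congrArg Subtype.val (hf m))
  refine ⟨m, m.2, ?_⟩
  have h1 : n⁻¹ * D.τ n * D.τ m = (m : N) := congrArg Subtype.val hm
  conv_rhs => rw [← h1]
  rw [map_mul]; group

/-- `N` is generated by the fixed points of `σ` and the elements `x⁻¹ σ x`. -/
theorem induction_mem {P : Subgroup N} (hfix : ∀ c, D.σ c = c → c ∈ P)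
    (hcom : ∀ x, x⁻¹ * D.σ x ∈ P) (n : N) : n ∈ P := by
  set M := Subgroup.closure (Set.range fun x => x⁻¹ * D.σ x) with hM
  have hMP : M ≤ P := (Subgroup.closure_le _).2 (by rintro _ ⟨x, rfl⟩; exact hcom x)
  have hMinv : ∀ x ∈ M, D.σ x ∈ M := by
    have : M ≤ M.comap D.σ.toMonoidHom := (Subgroup.closure_le _).2 (by
      rintro _ ⟨x, rfl⟩
      exact Subgroup.subset_closure ⟨D.σ x, by simp⟩)
    exact fun x hx => this hx
  obtain ⟨m, hm, hfixm⟩ := D.exists_fixed_coset hMinv (Subgroup.subset_closure ⟨n, rfl⟩ : n⁻¹ * D.σ n ∈ M)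
  have := mul_mem (hfix _ hfixm) (inv_mem (hMP hm))
  rwa [mul_inv_cancel_right] at this

/-- In a group with a fixed-point-free `σ` the product over a `σ`-orbit is trivial; hence the
commutator identity modulo any `σ`-invariant normal subgroup containing the fixed points. -/
theorem mod_identities {L : Subgroup N} [L.Normal] (hL : ∀ x ∈ L, D.σ x ∈ L)
    (hfix : ∀ c, D.σ c = c → c ∈ L) :
    (∀ x, x * D.σ x * D.σ (D.σ x) ∈ L) ∧ ∀ n a : N, ((⁅D.σ n, a⁆ : N) : N ⧸ L) = ((⁅n, D.σ a⁆ : N) : N ⧸ L) := by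
  let σ' : N ⧸ L →* N ⧸ L := QuotientGroup.map L L D.σ.toMonoidHom fun x hx => hL x hx
  have hσ' : ∀ x : N, σ' (x : N ⧸ L) = ((D.σ x : N) : N ⧸ L) := fun x => rfl
  have h3 : ∀ r, σ' (σ' (σ' r)) = r := fun r => by
    induction r using QuotientGroup.induction_on with
    | _ x => rw [hσ', hσ', hσ', D.σ3]
  have hfpf : ∀ r, σ' r = r → r = 1 := fun r => by
    induction r using QuotientGroup.induction_on with
    | _ x =>
      intro h
      rw [hσ', QuotientGroup.eq] at h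
      obtain ⟨m, hm, hfm⟩ := D.exists_fixed_coset hL (by simpa using inv_mem h : x⁻¹ * D.σ x ∈ L)
      have := mul_mem (hfix _ hfm) (inv_mem hm)
      rw [mul_inv_cancel_right] at this
      exact (QuotientGroup.eq_one_iff x).2 this
  have hsurj : ∀ r, ∃ y, y⁻¹ * σ' y = r := Finite.injective_iff_surjective.1 fun a b e => by
    have e' : a⁻¹ * σ' a = b⁻¹ * σ' b := e
    refine (mul_inv_eq_one.1 (hfpf (b * a⁻¹) ?_)).symm
    calc σ' (b * a⁻¹) = b * (b⁻¹ * σ' b) * (σ' a)⁻¹ := by rw [map_mul, map_inv]; group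
      _ = b * a⁻¹ := by rw [← e']; group
  have hprod : ∀ r, r * σ' r * σ' (σ' r) = 1 := fun r => by
    obtain ⟨y, rfl⟩ := hsurj r
    simp only [map_mul, map_inv, h3]; group
  have hcomm : ∀ r, r * σ' r = σ' r * r := fun r => by
    have h1 := hprod r
    have h2 := hprod r⁻¹
    rw [map_inv, map_inv, ← mul_inv_rev, ← mul_inv_rev, inv_eq_one] at h2
    rw [mul_eq_one_iff_eq_inv] at h1
    rw [h1, eq_comm]
    exact eq_inv_of_mul_eq_one_right h2
  have hI : ∀ n a : N ⧸ L, ⁅(σ' n)⁻¹, a⁆ = ⁅n⁻¹, σ' a⁆ := fun n a => by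
    have h := hcomm (n * a)
    rw [map_mul] at h
    have hn : (σ' n)⁻¹ * n⁻¹ * σ' n = n⁻¹ := by
      rw [mul_assoc, inv_mul_eq_iff_eq_mul, inv_mul_eq_iff_eq_mul, ← mul_assoc, hcomm n, mul_inv_cancel_right]
    have ha : a * (σ' a)⁻¹ * a⁻¹ = (σ' a)⁻¹ := by
      rw [mul_inv_eq_iff_eq_mul, eq_inv_mul_iff_mul_eq, ← mul_assoc, ← hcomm a, mul_inv_cancel_right]
    calc ⁅(σ' n)⁻¹, a⁆ = (σ' n)⁻¹ * n⁻¹ * (n * a * (σ' n * σ' a)) * (σ' a)⁻¹ * a⁻¹ := by
          rw [commutatorElement_def]; group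
      _ = ((σ' n)⁻¹ * n⁻¹ * σ' n) * σ' a * n * (a * (σ' a)⁻¹ * a⁻¹) := by rw [h]; group
      _ = ⁅n⁻¹, σ' a⁆ := by rw [hn, ha, commutatorElement_def]; group
  refine ⟨fun x => (QuotientGroup.eq_one_iff _).1 ?_, fun n a => ?_⟩
  · exact hprod (x : N ⧸ L)
  · have := hI (n : N ⧸ L)⁻¹ (a : N ⧸ L)
    rw [map_inv, inv_inv, inv_inv] at this
    exact this

/-- If `τ` is trivial modulo `K` and `K` contains the fixed points of `σ`, commutators linear in the
second variable lie in `K`. -/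
theorem commutator_mem {Kr : Subgroup N} [hKn : Kr.Normal] (hfix : ∀ c, D.σ c = c → c ∈ Kr)
    (hτ : ∀ x, x⁻¹ * D.τ x ∈ Kr) {Y : Subgroup N} (hYσ : ∀ y ∈ Y, D.σ y ∈ Y)
    (hlin : ∀ n : N, ∀ y ∈ Y, ∀ z ∈ Y, ⁅n, y * z⁆ = ⁅n, y⁆ * ⁅n, z⁆) (n : N) {z : N} (hz : z ∈ Y) :
    ⁅n, z⁆ ∈ Kr := by
  let L : Subgroup N := Kr ⊓ Kr.comap D.σ.toMonoidHom ⊓ Kr.comap (D.σ.trans D.σ).toMonoidHom
  have hLK : L ≤ Kr := inf_le_left.trans inf_le_left
  have hLσ : ∀ x ∈ L, D.σ x ∈ L := fun x hx => by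
    refine ⟨⟨hx.1.2, hx.2⟩, ?_⟩
    show D.σ (D.σ (D.σ x)) ∈ Kr
    rw [D.σ3]; exact hx.1.1
  have hLfix : ∀ c, D.σ c = c → c ∈ L := fun c hc => by
    refine ⟨⟨hfix c hc, ?_⟩, ?_⟩
    · show D.σ c ∈ Kr
      rw [hc]; exact hfix c hc
    · show D.σ (D.σ c) ∈ Kr
      rw [hc, hc]; exact hfix c hc
  haveI : L.Normal := inferInstance
  obtain ⟨hprod, hI⟩ := D.mod_identities hLσ hLfix
  set f := QuotientGroup.mk' Kr with hf
  have hfτ : ∀ x, f (D.τ x) = f x := fun x => (QuotientGroup.eq.2 (hτ x)).symm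
  have hfI : ∀ n a : N, f ⁅D.σ n, a⁆ = f ⁅n, D.σ a⁆ := fun n a =>
    QuotientGroup.eq.2 (hLK (QuotientGroup.eq.1 (hI n a)))
  have hcomp : ∀ y : N, f ⁅n, D.σ y⁆ = f ⁅n, D.σ (D.σ y)⁆ := fun y => by
    calc f ⁅n, D.σ y⁆ = f ⁅n, D.τ (D.σ y)⁆ := by
          rw [map_commutatorElement, map_commutatorElement, hfτ]
      _ = f ⁅D.σ (D.σ n), D.τ y⁆ := by rw [D.τσ, ← hfI, ← hfI]
      _ = f ⁅D.σ (D.σ n), y⁆ := by rw [map_commutatorElement, map_commutatorElement, hfτ]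
      _ = f ⁅n, D.σ (D.σ y)⁆ := by rw [hfI, hfI]
  have hshift : ∀ y : N, f ⁅n, y⁆ = f ⁅n, D.σ y⁆ := fun y => by
    have := hcomp (D.σ (D.σ y))
    rwa [D.σ3] at this
  have h1 : f ⁅n, z * D.σ z * D.σ (D.σ z)⁆ = 1 := by
    rw [map_commutatorElement, show f (z * D.σ z * D.σ (D.σ z)) = 1 from
      (QuotientGroup.eq_one_iff _).2 (hLK (hprod z)), commutatorElement_one_right]
  rw [hlin n _ (mul_mem hz (hYσ z hz)) _ (hYσ _ (hYσ z hz)), hlin n z hz _ (hYσ z hz), map_mul, map_mul,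
    ← hshift (D.σ z), ← hshift z] at h1
  refine (QuotientGroup.eq_one_iff _).1 ?_
  show f ⁅n, z⁆ = 1
  rw [← orderOf_eq_one_iff]
  refine Nat.eq_one_of_dvd_coprimes D.cop3 ((orderOf_map_dvd f _).trans (orderOf_dvd_natCard _))
    (orderOf_dvd_of_pow_eq_one ?_)
  rw [pow_succ, pow_two]
  exact h1

end Data

end Cfsg.Agent.SolvStruct.S3Fpf
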