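import Cfsg.Agent.SolvStruct.S3Fpf.ClassTwo
import Cfsg.Agent.Lib.Cores.Fitting

/-!
# Faithful solvable groups acted on by `Sym 3` without fixed points are abelian
-/

set_option autoImplicit false

namespace Cfsg.Agent.SolvStruct.S3Fpf

open Cfsg
open scoped commutatorElement

namespace Data

variable {K : Type*} [Field K] {V : Type*} [AddCommGroup V] [Module K V] {N : Type*} [Group N] [Finite N]
  (D : Data K V N)
include D

/-- The action restricted to an invariant subgroup. -/
def sub (M : Subgroup N) (hσ : ∀ a ∈ M, D.σ a ∈ M) (hτ : ∀ a ∈ M, D.τ a ∈ M) : Data K V M where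
  ρ := D.ρ.comp M.subtype
  s := D.s
  t := D.t
  σ :=
    { toFun := fun a => ⟨D.σ a, hσ a a.2⟩
      invFun := fun a => ⟨D.σ (D.σ a), hσ _ (hσ a a.2)⟩
      left_inv := fun a => Subtype.ext (D.σ3 a)
      right_inv := fun a => Subtype.ext (D.σ3 a)
      map_mul' := fun a b => Subtype.ext (map_mul D.σ (a : N) b) }
  τ :=
    { toFun := fun a => ⟨D.τ a, hτ a a.2⟩
      invFun := fun a => ⟨D.τ a, hτ a a.2⟩
      left_inv := fun a => Subtype.ext (D.τ2 a)
      right_inv := fun a => Subtype.ext (D.τ2 a)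
      map_mul' := fun a b => Subtype.ext (map_mul D.τ (a : N) b) }
  s3 := D.s3
  t2 := D.t2
  ts := D.ts
  σ3 x := Subtype.ext (D.σ3 x)
  τ2 x := Subtype.ext (D.τ2 x)
  τσ x := Subtype.ext (D.τσ x)
  sρ x v := D.sρ x v
  tρ x v := D.tρ x v
  fixV := D.fixV
  fixN x h1 h2 := Subtype.ext (D.fixN x (congrArg Subtype.val h1) (congrArg Subtype.val h2))
  cop := D.cop.coprime_dvd_left (Subgroup.card_subgroup_dvd_card M)
  two := D.two
  three := D.three

variable [IsAlgClosed K] [FiniteDimensional K V]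

omit [FiniteDimensional K V] in
/-- Invariant abelian normal subgroups are central. -/
theorem le_center_of_abelian (hinj : Function.Injective D.ρ) (A : Subgroup N) [A.Normal] [IsMulCommutative A]
    (hσ : ∀ a ∈ A, D.σ a ∈ A) (hτ : ∀ a ∈ A, D.τ a ∈ A) (hA : (Nat.card A : K) ≠ 0) :
    A ≤ Subgroup.center N := by
  classical
  haveI : Fintype A := Fintype.ofFinite A
  have hn : (Fintype.card A : K) ≠ 0 := by rwa [← Nat.card_eq_fintype_card]
  intro a ha
  refine Subgroup.mem_center_iff.2 fun n => ?_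
  have hm : n⁻¹ * a * n ∈ A := by simpa using (inferInstance : A.Normal).conj_mem a ha n⁻¹
  have key : ∀ χ : A →* Kˣ, Wt D.ρ A χ ≤ LinearMap.ker (D.ρ (n⁻¹ * a * n) - D.ρ a) := fun χ v hv => by
    rw [LinearMap.mem_ker, LinearMap.sub_apply, sub_eq_zero]
    by_cases hv0 : v = 0
    · rw [hv0, map_zero, map_zero]
    rw [hv ⟨_, hm⟩, hv ⟨a, ha⟩, ← shift_apply n χ ⟨a, ha⟩ hm,
      D.abelian_normal_central hσ hτ hn hv hv0 n]
  have h : D.ρ (n⁻¹ * a * n) = D.ρ a := LinearMap.ext fun v => by
    have h1 := span_weights D.ρ A hn key v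
    rwa [LinearMap.mem_ker, LinearMap.sub_apply, sub_eq_zero] at h1
  calc n * a = n * (n⁻¹ * a * n) := by rw [hinj h]
    _ = a * n := by group

/-- A faithful solvable group whose Fitting subgroup has invertible order is abelian. -/
theorem faithful_abelian [Group.IsSolvable N] (hinj : Function.Injective D.ρ)
    (hF : (Nat.card (fittingSubgroup N) : K) ≠ 0) (x y : N) : Commute x y := by
  set F := fittingSubgroup N with hFdef
  haveI : Group.IsNilpotent F := Cores.fittingSubgroup_isNilpotent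
  have hchar : ∀ (H : Subgroup N) [H.Characteristic] (f : N ≃* N), ∀ a ∈ H, f a ∈ H := fun H _ f a ha =>
    Subgroup.characteristic_iff_map_le.1 inferInstance f ⟨a, ha, rfl⟩
  have hcardH : ∀ H : Subgroup N, H ≤ F → (Nat.card H : K) ≠ 0 := fun H hH h => hF (by
    obtain ⟨m, hm⟩ := Subgroup.card_dvd_of_le hH
    rw [hm, Nat.cast_mul, h, zero_mul])
  set Z₂ : Subgroup N := (Subgroup.upperCentralSeries F 2).map F.subtype with hZ
  have hle : Z₂ ≤ F := Subgroup.map_subtype_le _
  have hσ := hchar F D.σ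
  have hτ := hchar F D.τ
  have hinv : ∀ f : N ≃* N, (∀ a ∈ F, f a ∈ F) → (∀ a ∈ F, f.symm a ∈ F) → ∀ a ∈ Z₂, f a ∈ Z₂ := by
    intro f hf hf' a ha
    obtain ⟨b, hb, rfl⟩ := ha
    let e : F ≃* F :=
      { toFun := fun c => ⟨f c, hf c c.2⟩
        invFun := fun c => ⟨f.symm c, hf' c c.2⟩
        left_inv := fun c => Subtype.ext (f.symm_apply_apply c)
        right_inv := fun c => Subtype.ext (f.apply_symm_apply c)
        map_mul' := fun c d => Subtype.ext (map_mul f (c : N) d) }
    exact ⟨e b, Subgroup.characteristic_iff_map_le.1 inferInstance e ⟨b, hb, rfl⟩, rfl⟩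
  have hσZ := hinv D.σ hσ (hchar F D.σ.symm)
  have hτZ := hinv D.τ hτ (hchar F D.τ.symm)
  haveI : Z₂.Normal := inferInstance
  have hclass : ∀ a b c : Z₂, Commute c ⁅a, b⁆ := fun a b c => by
    obtain ⟨a', ha', hae⟩ := a.2
    obtain ⟨b', -, hbe⟩ := b.2
    obtain ⟨c', -, hce⟩ := c.2
    have h1 : ⁅a', b'⁆ ∈ Subgroup.center F := by
      rw [← Subgroup.upperCentralSeries_one]
      exact Subgroup.mem_upperCentralSeries_succ_iff.1 ha' b'
    have h2 := congrArg F.subtype (Subgroup.mem_center_iff.1 h1 c')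
    rw [map_mul, map_mul, map_commutatorElement, hae, hbe, hce] at h2
    exact Subtype.ext (by
      show (c : N) * ((⁅a, b⁆ : Z₂) : N) = ((⁅a, b⁆ : Z₂) : N) * c
      exact h2)
  have hab : IsMulCommutative Z₂ := ⟨⟨fun a b => by
    have h := (D.sub Z₂ hσZ hτZ).class_two (hcardH Z₂ hle) hclass a b
    exact commutatorElement_eq_one_iff_mul_comm.1 (Subtype.ext (hinj (h.trans (map_one D.ρ).symm)))⟩⟩
  have hZc : Z₂ ≤ Subgroup.center N := D.le_center_of_abelian hinj Z₂ hσZ hτZ (hcardH Z₂ hle)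
  -- the upper central series of `F` stops at once
  have h21 : Subgroup.upperCentralSeries F 2 ≤ Subgroup.center F := fun a ha =>
    Subgroup.mem_center_iff.2 fun b =>
      Subtype.ext (Subgroup.mem_center_iff.1 (hZc ⟨a, ha, rfl⟩) (b : N))
  have hstab : ∀ k, Subgroup.upperCentralSeries F k ≤ Subgroup.center F := by
    intro k
    induction k with
    | zero => rw [Subgroup.upperCentralSeries_zero]; exact bot_le
    | succ k ih =>
      intro a ha
      refine h21 (Subgroup.mem_upperCentralSeries_succ_iff.2 fun b => ?_)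
      rw [Subgroup.upperCentralSeries_one]
      exact ih (Subgroup.mem_upperCentralSeries_succ_iff.1 ha b)
  obtain ⟨k, hk⟩ := Group.IsNilpotent.nilpotent (G := F)
  haveI : IsMulCommutative F := ⟨⟨fun a b =>
    (Subgroup.mem_center_iff.1 (hstab k (hk ▸ Subgroup.mem_top a)) b).symm⟩⟩
  have hFc : F ≤ Subgroup.center N := D.le_center_of_abelian hinj F hσ hτ hF
  have hall : ∀ g : N, g ∈ F := fun g => Cores.centralizer_fittingSubgroup_le
    (Subgroup.mem_centralizer_iff.2 fun h hh => (Subgroup.mem_center_iff.1 (hFc hh) g).symm)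
  exact (Subgroup.mem_center_iff.1 (hFc (hall x)) y).symm

end Data

end Cfsg.Agent.SolvStruct.S3Fpf
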