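import Cfsg.Agent.SolvStruct.S3Fpf.Main

/-!
# `Sym 3` acting without fixed points on a solvable group
-/

set_option autoImplicit false

namespace Cfsg.Agent.SolvStruct.S3Fpf

open Cfsg
open scoped commutatorElement

/-- `Sym 3` acting on a group by automorphisms without fixed points. -/
structure Act (G : Type*) [Group G] where
  σ : G ≃* G
  τ : G ≃* G
  σ3 : ∀ x, σ (σ (σ x)) = x
  τ2 : ∀ x, τ (τ x) = x
  τσ : ∀ x, τ (σ x) = σ (σ (τ x))
  fix : ∀ x, σ x = x → τ x = x → x = 1
  cop : (Nat.card G).Coprime 6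

namespace Act

variable {G : Type*} [Group G] [Finite G] (A : Act G)

/-- The group alone as data over `ℚ`. -/
def trivData : Data ℚ (Fin 0 → ℚ) G where
  ρ := 1
  s := 1
  t := 1
  σ := A.σ
  τ := A.τ
  s3 _ := rfl
  t2 _ := rfl
  ts _ := rfl
  σ3 := A.σ3
  τ2 := A.τ2
  τσ := A.τσ
  sρ _ _ := rfl
  tρ _ _ := rfl
  fixV _ _ _ := Subsingleton.elim _ _
  fixN := A.fix
  cop := A.cop
  two := by norm_num
  three := by norm_num

/-- An automorphism preserving a normal subgroup acts on the quotient. -/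
def quotMap (C : Subgroup G) [C.Normal] (f : G ≃* G) (hf : ∀ c ∈ C, f c ∈ C) : G ⧸ C →* G ⧸ C :=
  QuotientGroup.map C C f.toMonoidHom fun c hc => hf c hc

theorem quotMap_mk (C : Subgroup G) [C.Normal] (f : G ≃* G) (hf : ∀ c ∈ C, f c ∈ C) (x : G) :
    quotMap C f hf (x : G ⧸ C) = ((f x : G) : G ⧸ C) := rfl

/-- The action on an invariant quotient. -/
def quot (C : Subgroup G) [C.Normal] (hσ : ∀ c ∈ C, A.σ c ∈ C) (hτ : ∀ c ∈ C, A.τ c ∈ C) : Act (G ⧸ C) where
  σ :=
    { toFun := quotMap C A.σ hσ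
      invFun := fun r => quotMap C A.σ hσ (quotMap C A.σ hσ r)
      left_inv := fun r => QuotientGroup.induction_on r fun x => by simp only [quotMap_mk, A.σ3]
      right_inv := fun r => QuotientGroup.induction_on r fun x => by simp only [quotMap_mk, A.σ3]
      map_mul' := map_mul _ }
  τ :=
    { toFun := quotMap C A.τ hτ
      invFun := quotMap C A.τ hτ
      left_inv := fun r => QuotientGroup.induction_on r fun x => by simp only [quotMap_mk, A.τ2]
      right_inv := fun r => QuotientGroup.induction_on r fun x => by simp only [quotMap_mk, A.τ2]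
      map_mul' := map_mul _ }
  σ3 r := QuotientGroup.induction_on r fun x => congrArg (QuotientGroup.mk : G → G ⧸ C) (A.σ3 x)
  τ2 r := QuotientGroup.induction_on r fun x => congrArg (QuotientGroup.mk : G → G ⧸ C) (A.τ2 x)
  τσ r := QuotientGroup.induction_on r fun x => congrArg (QuotientGroup.mk : G → G ⧸ C) (A.τσ x)
  fix r := QuotientGroup.induction_on r fun x h1 h2 => by
    have h1' : ((A.σ x : G) : G ⧸ C) = x := h1
    have h2' : ((A.τ x : G) : G ⧸ C) = x := h2
    obtain ⟨m, hm, hfm⟩ := A.trivData.exists_fixed_coset (H := C) hσ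
      (show x⁻¹ * A.σ x ∈ C from QuotientGroup.eq.1 h1'.symm)
    have hinv : A.τ (x * m) = (x * m)⁻¹ := A.trivData.inverts hfm
    have h3 := congrArg (QuotientGroup.mk : G → G ⧸ C) hinv
    rw [map_mul, QuotientGroup.mk_mul, h2', (QuotientGroup.eq_one_iff _).2 (hτ m hm), mul_one,
      QuotientGroup.mk_inv, QuotientGroup.mk_mul, (QuotientGroup.eq_one_iff _).2 hm, mul_one] at h3
    rw [← orderOf_eq_one_iff]
    exact Nat.eq_one_of_dvd_coprimes A.trivData.odd
      ((orderOf_dvd_natCard _).trans (Subgroup.card_quotient_dvd_card C))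
      (orderOf_dvd_of_pow_eq_one (by rw [pow_two]; exact eq_inv_iff_mul_eq_one.1 h3))
  cop := A.cop.coprime_dvd_left (Subgroup.card_quotient_dvd_card C)

set_option maxHeartbeats 800000 in
/-- The derived group centralises every minimal invariant normal subgroup. -/
theorem derived_centralizes [Group.IsSolvable G] {V : Subgroup G} [V.Normal] (hV : V ≠ ⊥)
    (hσ : ∀ v ∈ V, A.σ v ∈ V) (hτ : ∀ v ∈ V, A.τ v ∈ V)
    (hmin : ∀ U : Subgroup G, U.Normal → (∀ v ∈ U, A.σ v ∈ U) → (∀ v ∈ U, A.τ v ∈ U) → U ≤ V → U = ⊥ ∨ U = V) :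
    commutator G ≤ Subgroup.centralizer (V : Set G) := by
  classical
  -- `V` is abelian
  have hab : ∀ a ∈ V, ∀ b ∈ V, a * b = b * a := by
    have hle : ⁅V, V⁆ ≤ V := Subgroup.commutator_le_left V V
    have hinv : ∀ f : G ≃* G, (∀ v ∈ V, f v ∈ V) → ∀ v ∈ ⁅V, V⁆, f v ∈ ⁅V, V⁆ := fun f hf v hv => by
      have h : f v ∈ (⁅V, V⁆).map f.toMonoidHom := ⟨v, hv, rfl⟩
      rw [Subgroup.map_commutator] at h
      have hsub : V.map f.toMonoidHom ≤ V := by rintro _ ⟨w, hw, rfl⟩; exact hf w hw
      exact Subgroup.commutator_mono hsub hsub h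
    rcases hmin ⁅V, V⁆ inferInstance (hinv A.σ hσ) (hinv A.τ hτ) hle with h | h
    · intro a ha b hb
      refine commutatorElement_eq_one_iff_mul_comm.1 ?_
      rw [← Subgroup.mem_bot, ← h]
      exact Subgroup.commutator_mem_commutator ha hb
    · exact absurd h (Group.IsSolvable.commutator_lt_of_ne_bot hV).ne
  letI : CommGroup V :=
    { (inferInstance : Group V) with mul_comm := fun a b => Subtype.ext (hab a a.2 b b.2) }
  -- `V` is elementary abelian
  have hV1 : Nat.card V ≠ 1 := fun h => hV (Subgroup.eq_bot_of_card_eq V h)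
  obtain ⟨p, hp, hpd⟩ := Nat.exists_prime_and_dvd hV1
  haveI : Fact p.Prime := ⟨hp⟩
  have hexp : ∀ v : V, v ^ p = 1 := by
    let U : Subgroup G := ((powMonoidHom p : V →* V).ker).map V.subtype
    have hmem : ∀ g, g ∈ U ↔ g ∈ V ∧ g ^ p = 1 := fun g => by
      constructor
      · rintro ⟨v, hv, rfl⟩
        exact ⟨v.2, congrArg Subtype.val (MonoidHom.mem_ker.1 hv)⟩
      · exact fun h => ⟨⟨g, h.1⟩, Subtype.ext h.2, rfl⟩
    have hUn : U.Normal := ⟨fun u hu g => by
      rw [hmem] at hu ⊢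
      exact ⟨(inferInstance : V.Normal).conj_mem u hu.1 g, by rw [conj_pow, hu.2, mul_one, mul_inv_cancel]⟩⟩
    have hUi : ∀ f : G ≃* G, (∀ v ∈ V, f v ∈ V) → ∀ v ∈ U, f v ∈ U := fun f hf v hv => by
      rw [hmem] at hv ⊢
      exact ⟨hf v hv.1, by rw [← map_pow, hv.2, map_one]⟩
    obtain ⟨v, hv⟩ := exists_prime_orderOf_dvd_card' (G := V) p hpd
    rcases hmin U hUn (hUi _ hσ) (hUi _ hτ) (Subgroup.map_subtype_le _) with h | h
    · exfalso
      have hvU : (v : G) ∈ U := (hmem _).2 ⟨v.2, by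
        have := congrArg Subtype.val (pow_orderOf_eq_one v)
        rw [hv] at this
        exact this⟩
      rw [h, Subgroup.mem_bot] at hvU
      rw [show v = 1 from Subtype.ext hvU, orderOf_one] at hv
      exact hp.ne_one hv.symm
    · exact fun v => Subtype.ext ((hmem _).1 (h.ge v.2)).2
  have hp6 : ∀ q : ℕ, q.Prime → q ∣ 6 → p ≠ q := fun q hq hq6 e =>
    hq.ne_one (Nat.eq_one_of_dvd_coprimes A.cop ((e ▸ hpd).trans (Subgroup.card_subgroup_dvd_card V)) hq6)
  -- the representation over the prime field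
  letI : Module (ZMod p) (Additive V) := AddCommGroup.zmodModule (G := Additive V) (n := p) (fun x => hexp x.toMul)
  let lin : (V →* V) → Module.End (ZMod p) (Additive V) := fun f => f.toAdditive.toZModLinearMap p
  have hext : ∀ f g : Module.End (ZMod p) (Additive V),
      (∀ x, (((f x).toMul : V) : G) = (((g x).toMul : V) : G)) → f = g :=
    fun f g h => LinearMap.ext fun x => Additive.toMul.injective (Subtype.ext (h x))
  let ρ₀ : G →* Module.End (ZMod p) (Additive V) :=
    { toFun := fun g => lin (MulAut.conjNormal g).toMonoidHom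
      map_one' := hext _ _ fun x => by simp [lin]
      map_mul' := fun g h => hext _ _ fun x => by simp [lin, mul_assoc] }
  have hρ₀ : ∀ g x, ((((ρ₀ g) x).toMul : V) : G) = g * ((x.toMul : V) : G) * g⁻¹ := fun g x =>
    MulAut.conjNormal_apply g x.toMul
  let res : ∀ f : G ≃* G, (∀ v ∈ V, f v ∈ V) → (V →* V) := fun f hf =>
    { toFun := fun v => ⟨f v, hf v v.2⟩
      map_one' := Subtype.ext (map_one f)
      map_mul' := fun a b => Subtype.ext (map_mul f (a : G) b) }
  let s₀ := lin (res A.σ hσ)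
  let t₀ := lin (res A.τ hτ)
  have hs₀ : ∀ x, (((s₀ x).toMul : V) : G) = A.σ ((x.toMul : V) : G) := fun x => rfl
  have ht₀ : ∀ x, (((t₀ x).toMul : V) : G) = A.τ ((x.toMul : V) : G) := fun x => rfl
  have es3 : s₀ * s₀ * s₀ = 1 := hext _ _ fun x => A.σ3 _
  have et2 : t₀ * t₀ = 1 := hext _ _ fun x => A.τ2 _
  have ets : t₀ * s₀ = s₀ * s₀ * t₀ := hext _ _ fun x => A.τσ _
  have esρ : ∀ g, s₀ * ρ₀ g = ρ₀ (A.σ g) * s₀ := fun g => hext _ _ fun x => by
    simp only [Module.End.mul_apply, hs₀, hρ₀, map_mul, map_inv]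
  have etρ : ∀ g, t₀ * ρ₀ g = ρ₀ (A.τ g) * t₀ := fun g => hext _ _ fun x => by
    simp only [Module.End.mul_apply, ht₀, hρ₀, map_mul, map_inv]
  have esum : (1 + t₀) * (1 + s₀ + s₀ * s₀) = 0 := LinearMap.ext fun x => by
    obtain ⟨u, hu⟩ : ∃ u, u = ((1 + t₀) * (1 + s₀ + s₀ * s₀)) x := ⟨_, rfl⟩
    rw [← hu, LinearMap.zero_apply]
    have h3 : ∀ y, s₀ (s₀ (s₀ y)) = y := fun y => LinearMap.congr_fun es3 y
    have h2 : ∀ y, t₀ (t₀ y) = y := fun y => LinearMap.congr_fun et2 y
    have hts : ∀ y, t₀ (s₀ y) = s₀ (s₀ (t₀ y)) := fun y => LinearMap.congr_fun ets y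
    have e1 : s₀ u = u := by
      simp only [hu, Module.End.mul_apply, LinearMap.add_apply, Module.End.one_apply, map_add, hts, h3]
      abel
    have e2 : t₀ u = u := by
      simp only [hu, Module.End.mul_apply, LinearMap.add_apply, Module.End.one_apply, map_add, h2]
      abel
    exact Additive.toMul.injective (Subtype.ext (A.fix _
      ((hs₀ u).symm.trans (congrArg (fun y : Additive V => ((y.toMul : V) : G)) e1))
      ((ht₀ u).symm.trans (congrArg (fun y : Additive V => ((y.toMul : V) : G)) e2))))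
  -- the kernel
  obtain ⟨C, hCdef⟩ : ∃ C : Subgroup G, C = ρ₀.ker := ⟨_, rfl⟩
  haveI hCn : C.Normal := hCdef ▸ inferInstance
  have hCmem : ∀ g, g ∈ C ↔ g ∈ Subgroup.centralizer (V : Set G) := fun g => by
    rw [Subgroup.mem_centralizer_iff, hCdef]
    constructor
    · intro h v hv
      have h1 := hρ₀ g (Additive.ofMul ⟨v, hv⟩)
      rw [MonoidHom.mem_ker.1 h] at h1
      exact eq_mul_inv_iff_mul_eq.1 h1
    · intro h
      refine MonoidHom.mem_ker.2 (hext _ _ fun x => ?_)
      rw [hρ₀, ← h _ (x.toMul : V).2, mul_inv_cancel_right]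
      rfl
  have hCi : ∀ (f : G ≃* G) (l : Module.End (ZMod p) (Additive V)),
      (∀ g, l * ρ₀ g = ρ₀ (f g) * l) → Function.Surjective l → ∀ c ∈ C, f c ∈ C := by
    intro f l hl hls c hc
    rw [hCdef] at hc ⊢
    refine MonoidHom.mem_ker.2 (LinearMap.ext fun x => ?_)
    obtain ⟨y, rfl⟩ := hls x
    rw [← Module.End.mul_apply, ← hl, MonoidHom.mem_ker.1 hc, mul_one]
    rfl
  have hCσ := hCi A.σ s₀ esρ fun x => ⟨s₀ (s₀ x), LinearMap.congr_fun es3 x⟩
  have hCτ := hCi A.τ t₀ etρ fun x => ⟨t₀ x, LinearMap.congr_fun et2 x⟩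
  let Q := A.quot C hCσ hCτ
  obtain ⟨ρb, hρb, hρbinj⟩ : ∃ ρb : G ⧸ C →* Module.End (ZMod p) (Additive V),
      (∀ g : G, ρb (g : G ⧸ C) = ρ₀ g) ∧ Function.Injective ρb :=
    ⟨QuotientGroup.lift C ρ₀ hCdef.le, fun g => QuotientGroup.lift_mk' C _ g,
      (injective_iff_map_eq_one _).2 fun r => QuotientGroup.induction_on r fun g hg => by
        rw [QuotientGroup.lift_mk'] at hg
        rw [QuotientGroup.eq_one_iff, hCdef]
        exact hg⟩
  -- the `p`-core of the quotient is trivial
  have hcore : pCore p (G ⧸ C) = ⊥ := by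
    let P := pCore p (G ⧸ C)
    let H := P.comap (QuotientGroup.mk' C)
    have hH : ∀ (f : G ≃* G) (F : (G ⧸ C) ≃* (G ⧸ C)), (∀ x : G, F (x : G ⧸ C) = ((f x : G) : G ⧸ C)) →
        ∀ x, x ∈ H → f x ∈ H := by
      intro f F hF x hx
      show ((f x : G) : G ⧸ C) ∈ P
      rw [← hF]
      exact Subgroup.characteristic_iff_map_le.1 inferInstance F ⟨_, hx, rfl⟩
    have hHσ := hH A.σ Q.σ fun x => rfl
    have hHτ := hH A.τ Q.τ fun x => rfl
    let U : Subgroup G := V ⊓ Subgroup.centralizer (H : Set G)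
    have hUi : ∀ (f : G ≃* G) (fi : G → G), (∀ x, f (fi x) = x) → (∀ v ∈ V, f v ∈ V) →
        (∀ x, x ∈ H → fi x ∈ H) → ∀ v ∈ U, f v ∈ U := by
      intro f fi hfi hfV hfH v hv
      refine ⟨hfV v hv.1, Subgroup.mem_centralizer_iff.2 fun h hh => ?_⟩
      rw [← hfi h, ← map_mul, ← map_mul, Subgroup.mem_centralizer_iff.1 hv.2 _ (hfH h hh)]
    have hU : U = ⊥ ∨ U = V := hmin U inferInstance
      (hUi A.σ (fun x => A.σ (A.σ x)) A.σ3 hσ fun x hx => hHσ _ (hHσ x hx))
      (hUi A.τ A.τ A.τ2 hτ hHτ) inf_le_left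
    -- a nontrivial fixed vector
    letI : MulAction P (Additive V) :=
      MulAction.compHom (Additive V) (ρb.comp P.subtype)
    have hcard : p ∣ Nat.card (Additive V) := hpd
    haveI : Finite (MulAction.fixedPoints P (Additive V)) := Subtype.finite
    have h0 : (0 : Additive V) ∈ MulAction.fixedPoints P (Additive V) := fun g =>
      map_zero (ρb (g : G ⧸ C))
    obtain ⟨x, hx, hx0⟩ : ∃ x ∈ MulAction.fixedPoints P (Additive V), x ≠ 0 := by
      obtain ⟨x, hx, hne⟩ := (Cores.pCore_isPGroup (G := G ⧸ C) p).exists_fixed_point_of_prime_dvd_card_of_fixed_point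
        (Additive V) hcard h0
      exact ⟨x, hx, fun e => hne e.symm⟩
    have hxU : ((x.toMul : V) : G) ∈ U := ⟨(x.toMul : V).2, Subgroup.mem_centralizer_iff.2 fun h hh => by
      have h1 : ρ₀ h x = x := by
        rw [← hρb]
        exact hx ⟨(h : G ⧸ C), hh⟩
      exact mul_inv_eq_iff_eq_mul.1 ((hρ₀ h x).symm.trans (congrArg (fun y : Additive V => ((y.toMul : V) : G)) h1))⟩
    rcases hU with h | h
    · rw [h, Subgroup.mem_bot] at hxU
      exact absurd (Additive.toMul.injective (Subtype.ext hxU)) hx0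
    refine (Subgroup.eq_bot_iff_forall _).2 fun r => QuotientGroup.induction_on r fun g hg => ?_
    refine (QuotientGroup.eq_one_iff g).2 ((hCmem g).2 (Subgroup.mem_centralizer_iff.2 fun v hv => ?_))
    exact (Subgroup.mem_centralizer_iff.1 (h.ge hv : v ∈ U).2 g hg).symm
  -- extend the scalars
  let L := AlgebraicClosure (ZMod p)
  haveI : Module.Finite (ZMod p) (Additive V) := Module.Finite.of_finite
  let b := Module.finBasis (ZMod p) (Additive V)
  let ι := Fin (Module.finrank (ZMod p) (Additive V))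
  let Φ : Module.End (ZMod p) (Additive V) →+* Module.End L (ι → L) :=
    (Matrix.toLinAlgEquiv' (R := L) (n := ι)).toRingEquiv.toRingHom.comp
      ((algebraMap (ZMod p) L).mapMatrix.comp (LinearMap.toMatrixAlgEquiv b).toRingEquiv.toRingHom)
  have hΦ : Function.Injective Φ := fun f g h => by
    have h1 := (Matrix.toLinAlgEquiv' (R := L) (n := ι)).injective h
    exact (LinearMap.toMatrixAlgEquiv b).injective (Matrix.map_injective (algebraMap (ZMod p) L).injective h1)
  have hchar : CharP L p := charP_of_injective_algebraMap (algebraMap (ZMod p) L).injective p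
  have hq : ∀ q : ℕ, q.Prime → q ∣ 6 → (q : L) ≠ 0 := fun q hq hq6 h =>
    hp6 q hq hq6 ((Nat.prime_dvd_prime_iff_eq hp hq).1 ((CharP.cast_eq_zero_iff L p q).1 h))
  have h2L : (2 : L) ≠ 0 := by exact_mod_cast hq 2 Nat.prime_two (by norm_num)
  have h3L : (3 : L) ≠ 0 := by exact_mod_cast hq 3 Nat.prime_three (by norm_num)
  let D : Data L (ι → L) (G ⧸ C) :=
    { ρ := (Φ.toMonoidHom).comp ρb
      s := Φ s₀
      t := Φ t₀
      σ := Q.σ
      τ := Q.τ
      s3 := fun v => by
        have h := LinearMap.congr_fun (congrArg Φ es3) v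
        rwa [map_mul, map_mul, map_one] at h
      t2 := fun v => by
        have h := LinearMap.congr_fun (congrArg Φ et2) v
        rwa [map_mul, map_one] at h
      ts := fun v => by
        have h := LinearMap.congr_fun (congrArg Φ ets) v
        rwa [map_mul, map_mul, map_mul] at h
      σ3 := Q.σ3
      τ2 := Q.τ2
      τσ := Q.τσ
      sρ := fun x v => QuotientGroup.induction_on x fun g => by
        have h := LinearMap.congr_fun (congrArg Φ (esρ g)) v
        rw [map_mul, map_mul, ← hρb, ← hρb] at h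
        exact h
      tρ := fun x v => QuotientGroup.induction_on x fun g => by
        have h := LinearMap.congr_fun (congrArg Φ (etρ g)) v
        rw [map_mul, map_mul, ← hρb, ← hρb] at h
        exact h
      fixV := fun v h1 h2 => by
        have h := LinearMap.congr_fun (congrArg Φ esum) v
        simp only [map_mul, map_add, map_one, map_zero, Module.End.mul_apply, LinearMap.add_apply,
          Module.End.one_apply, LinearMap.zero_apply, h1, h2] at h
        have h6 : ((2 : L) * 3) • v = 0 := by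
          rw [show (2 : L) * 3 = 1 + 1 + 1 + (1 + 1 + 1) by norm_num]
          simp only [add_smul, one_smul]
          rw [← h]
          abel
        exact (smul_eq_zero.1 h6).resolve_left (mul_ne_zero h2L h3L)
      fixN := Q.fix
      cop := Q.cop
      two := h2L
      three := h3L }
  have hinj : Function.Injective D.ρ := hΦ.comp hρbinj
  have hF : (Nat.card (fittingSubgroup (G ⧸ C)) : L) ≠ 0 := fun h => by
    have hd := (CharP.cast_eq_zero_iff L p _).1 h
    obtain ⟨P⟩ : Nonempty (Sylow p (fittingSubgroup (G ⧸ C))) := inferInstance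
    refine P.ne_bot_of_dvd_card hd (Subgroup.map_injective (fittingSubgroup (G ⧸ C)).subtype_injective ?_)
    rw [Cores.sylow_fitting_map, hcore, Subgroup.map_bot]
  rw [commutator_def, Subgroup.commutator_le]
  intro g _ h _
  refine (hCmem _).1 ((QuotientGroup.eq_one_iff _).1 ?_)
  show QuotientGroup.mk' C ⁅g, h⁆ = 1
  rw [map_commutatorElement, commutatorElement_eq_one_iff_mul_comm]
  exact D.faithful_abelian hinj hF _ _

/-- The derived group is nilpotent. -/
theorem derived_nilpotent {G : Type*} [Group G] [Finite G] [Group.IsSolvable G] (A : Act G) :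
    Group.IsNilpotent (commutator G) := by
  revert A
  induction hn : Nat.card G using Nat.strong_induction_on generalizing G with
  | _ n ih =>
  intro A
  classical
  rcases subsingleton_or_nontrivial G with hs | hs
  · infer_instance
  let P : Subgroup G → Prop := fun U =>
    U ≠ ⊥ ∧ U.Normal ∧ (∀ v ∈ U, A.σ v ∈ U) ∧ ∀ v ∈ U, A.τ v ∈ U
  obtain ⟨V, -, hV⟩ := exists_minimal_le_of_wellFoundedLT P ⊤
    ⟨top_ne_bot, inferInstance, fun _ _ => Subgroup.mem_top _, fun _ _ => Subgroup.mem_top _⟩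
  obtain ⟨⟨hV0, hVn, hVσ, hVτ⟩, hmin⟩ := hV
  haveI := hVn
  have hc := A.derived_centralizes hV0 hVσ hVτ fun U hUn hUσ hUτ hUV => by
    by_cases hU : U = ⊥
    · exact Or.inl hU
    · exact Or.inr (le_antisymm hUV (hmin ⟨hU, hUn, hUσ, hUτ⟩ hUV))
  have hlt : Nat.card (G ⧸ V) < n := by
    rw [← hn, Subgroup.card_eq_card_quotient_mul_card_subgroup V]
    exact lt_mul_of_one_lt_right Nat.card_pos ((Subgroup.one_lt_card_iff_ne_bot V).2 hV0)
  have h1 : Group.IsNilpotent (commutator (G ⧸ V)) := ih _ hlt rfl (A.quot V hVσ hVτ)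
  have hmap : (commutator G).map (QuotientGroup.mk' V) = commutator (G ⧸ V) := by
    rw [commutator_def, commutator_def, Subgroup.map_commutator,
      Subgroup.map_top_of_surjective _ (QuotientGroup.mk'_surjective V)]
  haveI : Group.IsNilpotent ((commutator G).map (QuotientGroup.mk' V)) := hmap ▸ h1
  refine Subgroup.isNilpotent_of_ker_le_center ((QuotientGroup.mk' V).subgroupMap (commutator G)) ?_
  intro x hx
  refine Subgroup.mem_center_iff.2 fun y => Subtype.ext ?_
  have hxV : (x : G) ∈ V := (QuotientGroup.eq_one_iff _).1 (congrArg Subtype.val (MonoidHom.mem_ker.1 hx))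
  exact (Subgroup.mem_centralizer_iff.1 (hc y.2) _ hxV).symm

end Act

end Cfsg.Agent.SolvStruct.S3Fpf
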